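import Mathlib
import Cfsg.Agent.Lib.Fusion.Mor
import Cfsg.Agent.Lib.Fusion.RankTwo

/-!
# Fusion systems on the extraspecial group of order `p ^ 3` and exponent `p`: definitions (plans/RV.md)
-/

set_option autoImplicit false

namespace CfsgLib.RV

open Subgroup Matrix Cfsg CfsgLib.Fusion

/-- the plane -/
abbrev V2 (p : ℕ) : Type := Fin 2 → ZMod p

/-- its linear group -/
abbrev G2 (p : ℕ) : Type := GL (Fin 2) (ZMod p)

/-- the alternating form -/
def om {p : ℕ} (v w : V2 p) : ZMod p := v 0 * w 1 - v 1 * w 0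

/-- the Heisenberg group -/
@[ext] structure Hs (p : ℕ) where
  /-- the image in the plane -/
  v : V2 p
  /-- the central coordinate -/
  c : ZMod p

variable {p : ℕ}

namespace Hs

instance : Mul (Hs p) := ⟨fun a b => ⟨a.v + b.v, a.c + b.c + om a.v b.v⟩⟩
instance : One (Hs p) := ⟨⟨0, 0⟩⟩
instance : Inv (Hs p) := ⟨fun a => ⟨-a.v, -a.c⟩⟩

@[simp] theorem mul_v (a b : Hs p) : (a * b).v = a.v + b.v := rfl
@[simp] theorem mul_c (a b : Hs p) : (a * b).c = a.c + b.c + om a.v b.v := rfl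
@[simp] theorem one_v : (1 : Hs p).v = 0 := rfl
@[simp] theorem one_c : (1 : Hs p).c = 0 := rfl
@[simp] theorem inv_v (a : Hs p) : a⁻¹.v = -a.v := rfl
@[simp] theorem inv_c (a : Hs p) : a⁻¹.c = -a.c := rfl

instance : Group (Hs p) := Group.ofLeftAxioms
  (fun a b c => Hs.ext (add_assoc _ _ _) (by simp [om]; ring))
  (fun a => Hs.ext (zero_add _) (by simp [om]))
  (fun a => Hs.ext (neg_add_cancel _) (by simp [om]; ring))

/-- the underlying set -/
def equivProd : Hs p ≃ V2 p × ZMod p := ⟨fun a => (a.v, a.c), fun a => ⟨a.1, a.2⟩, fun _ => rfl, fun _ => rfl⟩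

instance [NeZero p] : Finite (Hs p) := Finite.of_equiv _ equivProd.symm

theorem card_eq (p : ℕ) : Nat.card (Hs p) = p ^ 3 := by
  rw [Nat.card_congr equivProd, Nat.card_prod, Nat.card_fun, Nat.card_zmod, Nat.card_fin]; ring

theorem pow_eq (a : Hs p) (n : ℕ) : a ^ n = ⟨(n : ZMod p) • a.v, n * a.c⟩ := by
  induction n with
  | zero => ext <;> simp
  | succ n ih =>
    rw [pow_succ, ih]
    refine Hs.ext ?_ ?_
    · simp [add_smul]
    · simp [om]; ring

theorem pow_p (a : Hs p) : a ^ p = 1 := by rw [pow_eq]; ext <;> simp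

theorem conj_eq (a b : Hs p) : a * b * a⁻¹ = ⟨b.v, b.c + 2 * om a.v b.v⟩ :=
  Hs.ext (by simp) (by simp [om]; ring)

theorem comm_iff {a b : Hs p} : a * b = b * a ↔ 2 * om a.v b.v = 0 := by
  rw [← mul_inv_eq_iff_eq_mul, conj_eq, Hs.ext_iff]; simp

theorem cen_comm (c : ZMod p) (a : Hs p) : a * ⟨0, c⟩ = ⟨0, c⟩ * a := comm_iff.2 (by simp [om])

end Hs

theorem om_mulVec (A : Matrix (Fin 2) (Fin 2) (ZMod p)) (v w : V2 p) : om (A *ᵥ v) (A *ᵥ w) = A.det * om v w := by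
  simp [om, mulVec, dotProduct, Fin.sum_univ_two, det_fin_two]; ring

/-- the action of a matrix on the Heisenberg group, as a function -/
def actF (A : G2 p) (a : Hs p) : Hs p := ⟨A.1 *ᵥ a.v, A.1.det * a.c⟩

theorem actF_mul (A B : G2 p) (a : Hs p) : actF (A * B) a = actF A (actF B a) :=
  Hs.ext (mulVec_mulVec a.v A.1 B.1).symm (by simp [actF, mul_assoc])

theorem actF_one (a : Hs p) : actF 1 a = a := Hs.ext (one_mulVec a.v) (by simp [actF])

/-- the action of `GL₂(p)` on the Heisenberg group -/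
def act : G2 p →* MulAut (Hs p) where
  toFun A :=
    { toFun := actF A
      invFun := actF A⁻¹
      left_inv := fun a => by rw [← actF_mul, inv_mul_cancel, actF_one]
      right_inv := fun a => by rw [← actF_mul, mul_inv_cancel, actF_one]
      map_mul' := fun a b => Hs.ext (mulVec_add A.1 a.v b.v) (by
        simp only [actF, Hs.mul_c, om_mulVec, mul_add]) }
  map_one' := MulEquiv.ext actF_one
  map_mul' A B := MulEquiv.ext (actF_mul A B)

@[simp] theorem act_v (A : G2 p) (a : Hs p) : (act A a).v = A.1 *ᵥ a.v := rfl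
@[simp] theorem act_c (A : G2 p) (a : Hs p) : (act A a).c = A.1.det * a.c := rfl

theorem act_mk (A : G2 p) (v : V2 p) (c : ZMod p) : act A ⟨v, c⟩ = ⟨A.1 *ᵥ v, A.1.det * c⟩ := rfl

/-- the subgroup over the line through `v` -/
def VV (v : V2 p) : Subgroup (Hs p) where
  carrier := {a | ∃ t : ZMod p, a.v = t • v}
  one_mem' := ⟨0, (zero_smul _ _).symm⟩
  mul_mem' := fun ⟨s, hs⟩ ⟨t, ht⟩ => ⟨s + t, by rw [Hs.mul_v, hs, ht, add_smul]⟩
  inv_mem' := fun ⟨s, hs⟩ => ⟨-s, by rw [Hs.inv_v, hs, neg_smul]⟩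

theorem mem_VV {v : V2 p} {a : Hs p} : a ∈ VV v ↔ ∃ t : ZMod p, a.v = t • v := Iff.rfl

/-! ### linear data -/

/-- admissible data: the outer automizer `W` of the group and the cone `E` of the essential planes -/
structure Adm (W : Subgroup (G2 p)) (E : Set (V2 p)) : Prop where
  cop : ¬ p ∣ Nat.card W
  ne : ∀ v ∈ E, v ≠ 0
  smul : ∀ v ∈ E, ∀ t : ZMod p, t ≠ 0 → t • v ∈ E
  inv : ∀ A ∈ W, ∀ v ∈ E, A.1 *ᵥ v ∈ E
  tor : ∀ v ∈ E, ∀ l : (ZMod p)ˣ, ∃ A ∈ W, A.1 *ᵥ v = ((l⁻¹ : (ZMod p)ˣ) : ZMod p) • v ∧ A.1.det = l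

/-- three different lines -/
def Three (E : Set (V2 p)) : Prop := ∃ u ∈ E, ∃ v ∈ E, ∃ w ∈ E, om u v ≠ 0 ∧ om u w ≠ 0 ∧ om v w ≠ 0

/-- the conjugate `g W g⁻¹` -/
def cjW (g : G2 p) (W : Subgroup (G2 p)) : Subgroup (G2 p) := W.map (MulAut.conj g).toMonoidHom

/-- the image `g E` -/
def cjE (g : G2 p) (E : Set (V2 p)) : Set (V2 p) := (fun v => g.1 *ᵥ v) '' E

theorem mem_cjW {g A : G2 p} {W : Subgroup (G2 p)} : A ∈ cjW g W ↔ g⁻¹ * A * g ∈ W :=
  ⟨by rintro ⟨B, hB, rfl⟩; simpa [mul_assoc] using hB, fun h => ⟨_, h, by simp [mul_assoc]⟩⟩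

theorem mem_cjE {g : G2 p} {v : V2 p} {E : Set (V2 p)} : v ∈ cjE g E ↔ (g⁻¹).1 *ᵥ v ∈ E :=
  ⟨by rintro ⟨w, hw, rfl⟩; rwa [mulVec_mulVec, ← Units.val_mul, inv_mul_cancel, Units.val_one, one_mulVec],
    fun h => ⟨_, h, by simp only [mulVec_mulVec, ← Units.val_mul, mul_inv_cancel, Units.val_one, one_mulVec]⟩⟩

theorem cjW_cjW (g h : G2 p) (W : Subgroup (G2 p)) : cjW g (cjW h W) = cjW (g * h) W := by
  ext A; simp [mem_cjW, mul_assoc]

theorem cjE_cjE (g h : G2 p) (E : Set (V2 p)) : cjE g (cjE h E) = cjE (g * h) E := by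
  ext v; simp only [mem_cjE, mulVec_mulVec, ← Units.val_mul, _root_.mul_inv_rev]

theorem cjW_one (W : Subgroup (G2 p)) : cjW 1 W = W := by ext A; simp [mem_cjW]

theorem cjE_one (E : Set (V2 p)) : cjE 1 E = E := by ext v; simp [mem_cjE]

/-- the two coordinate axes -/
def axes (p : ℕ) : Set (V2 p) := {v | v ≠ 0 ∧ v 0 * v 1 = 0}

/-- diagonal matrices whose entries differ by a cube -/
def T0 (p : ℕ) : Set (G2 p) := {A | A.1 0 1 = 0 ∧ A.1 1 0 = 0 ∧ ∃ u : ZMod p, A.1 0 0 = A.1 1 1 * u ^ 3}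

/-- monomial matrices -/
def Mono (p : ℕ) : Set (G2 p) := {A | (A.1 0 1 = 0 ∧ A.1 1 0 = 0) ∨ (A.1 0 0 = 0 ∧ A.1 1 1 = 0)}

/-! ### the data of a group -/

section Grp

variable {G : Type*} [Group G]

/-- `θ` identifies the Heisenberg group with a Sylow subgroup -/
structure SylH (θ : Hs p →* G) : Prop where
  inj : Function.Injective θ
  idx : ¬ p ∣ θ.range.index

/-- the matrices induced by the subgroup `L` -/
def WL (L : Subgroup G) (θ : Hs p →* G) : Subgroup (G2 p) where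
  carrier := {A | ∃ g ∈ L, ∀ a, g * θ a * g⁻¹ = θ (act A a)}
  one_mem' := ⟨1, one_mem _, fun a => by simp⟩
  mul_mem' := fun {A B} ⟨g, hg, e⟩ ⟨h, hh, f⟩ => ⟨g * h, mul_mem hg hh, fun a => by
    rw [map_mul act, MulAut.mul_apply, ← e, ← f]; group⟩
  inv_mem' := fun {A} ⟨g, hg, e⟩ => ⟨g⁻¹, inv_mem hg, fun a => by
    have := e (act A⁻¹ a)
    rw [← MulAut.mul_apply, ← map_mul, mul_inv_cancel, map_one, MulAut.one_apply] at this
    rw [← this]; group⟩

/-- the vectors fused into the centre by the subgroup `L` -/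
def EL (L : Subgroup G) (θ : Hs p →* G) : Set (V2 p) :=
  {v | v ≠ 0 ∧ ∃ g ∈ L, ∃ c : ZMod p, g * θ ⟨v, 0⟩ * g⁻¹ = θ ⟨0, c⟩}

theorem mem_WL {L : Subgroup G} {θ : Hs p →* G} {A : G2 p} :
    A ∈ WL L θ ↔ ∃ g ∈ L, ∀ a, g * θ a * g⁻¹ = θ (act A a) := Iff.rfl

theorem WL_mono {L M : Subgroup G} (h : L ≤ M) (θ : Hs p →* G) : WL L θ ≤ WL M θ :=
  fun _ ⟨g, hg, e⟩ => ⟨g, h hg, e⟩

theorem EL_mono {L M : Subgroup G} (h : L ≤ M) (θ : Hs p →* G) : EL L θ ⊆ EL M θ :=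
  fun _ ⟨h0, g, hg, e⟩ => ⟨h0, g, h hg, e⟩

end Grp

/-- the data are those of a finite group -/
def Rz (W : Subgroup (G2 p)) (E : Set (V2 p)) : Prop :=
  ∃ (G : Type) (_ : Group G) (_ : Finite G) (θ : Hs p →* G), SylH θ ∧ WL ⊤ θ = W ∧ EL ⊤ θ = E

/-! ### the data of a fusion system -/

section Fus

variable {Ω : Type*} [Group Ω] {S : Subgroup Ω}

/-- `θ` identifies the Heisenberg group with `S` -/
structure Crd (S : Subgroup Ω) (θ : Hs p →* Ω) : Prop where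
  inj : Function.Injective θ
  range : θ.range = S

theorem Crd.mem {θ : Hs p →* Ω} (h : Crd S θ) (a : Hs p) : θ a ∈ S := h.range.le ⟨a, rfl⟩

theorem Crd.exists_eq {θ : Hs p →* Ω} (h : Crd S θ) {x : Ω} (hx : x ∈ S) : ∃ a, θ a = x := h.range.ge hx

/-- the matrices induced by the fusion system -/
def WF (F : FusionSystem S) {θ : Hs p →* Ω} (h : Crd S θ) : Subgroup (G2 p) where
  carrier := {A | ∃ f, Mor F S f ∧ ∀ a, f (θ a) = θ (act A a)}
  one_mem' := ⟨id, Mor.id F le_rfl, fun a => by simp⟩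
  mul_mem' := fun {A B} ⟨f, hf, e⟩ ⟨g, hg, e'⟩ => ⟨f ∘ g, hg.comp hf fun _ => hg.mem, fun a => by
    rw [map_mul act, MulAut.mul_apply, Function.comp_apply, e', e]⟩
  inv_mem' := fun {A} ⟨f, hf, e⟩ => by
    have h1 : img S f = S := le_antisymm hf.img_le fun x hx => by
      obtain ⟨a, rfl⟩ := h.exists_eq hx
      refine hf.mem_img.2 ⟨_, h.mem (act A⁻¹ a), ?_⟩
      rw [e, ← MulAut.mul_apply, ← map_mul, mul_inv_cancel, map_one, MulAut.one_apply]
    obtain ⟨g, hg, e', -⟩ := hf.exists_inv' h1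
    refine ⟨g, hg, fun a => ?_⟩
    rw [← e' _ (h.mem (act A⁻¹ a)), e, ← MulAut.mul_apply, ← map_mul, mul_inv_cancel, map_one, MulAut.one_apply]

theorem mem_WF {F : FusionSystem S} {θ : Hs p →* Ω} {h : Crd S θ} {A : G2 p} :
    A ∈ WF F h ↔ ∃ f, Mor F S f ∧ ∀ a, f (θ a) = θ (act A a) := Iff.rfl

/-- the vectors fused into the centre by the fusion system -/
def EF (F : FusionSystem S) (θ : Hs p →* Ω) : Set (V2 p) :=
  {v | v ≠ 0 ∧ ∃ f, Mor F (zpowers (θ ⟨v, 0⟩)) f ∧ ∃ c : ZMod p, f (θ ⟨v, 0⟩) = θ ⟨0, c⟩}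

end Fus

/-! ### an element of order `5` or `13` with a quaternion group in its centraliser -/

/-- the local configuration in the Thompson group and in the Monster -/
structure Hyp (p : ℕ) {G : Type*} [Group G] (z x : G) : Prop where
  hp : p = 5 ∨ p = 13
  oz : orderOf z = 2
  ox : orderOf x = p
  zx : Commute z x
  dvd : p ^ 3 ∣ Nat.card G
  ndvd : ¬ p ^ 4 ∣ Nat.card G
  cardC : ¬ p ^ 2 ∣ Nat.card (centralizer ({z} : Set G))
  cardB : Nat.card (centralizer ({z} : Set G) ⊓ centralizer {x} : Subgroup G) = 24 * p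
  inv : ∀ b, Commute b z → Commute b x → orderOf b = 2 → b = z
  pow : ∀ b, Commute b z → Commute b x → b ^ (2 * p) ∈ zpowers z ∨ b ^ (3 * p) ∈ zpowers z
  four : ∃ (s : G) (l : ℕ), Commute s z ∧ s * x * s⁻¹ = x ^ l ∧ p ∣ l ^ 2 + 1
  cls : ∀ t, orderOf t = 2 → t * x * t⁻¹ = x⁻¹ → IsConj z t

/-- the quaternion group `⟨i, j⟩` and an element `c` centralising it and inverting `x` -/
structure Quat8 {G : Type*} [Group G] (z x i j c : G) : Prop where
  ii : i * i = z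
  jj : j * j = z
  ij : j * i = i * j * z
  ix : Commute i x
  jx : Commute j x
  ci : Commute c i
  cj : Commute c j
  cx : c * x * c⁻¹ = x⁻¹
  cc : c * c = 1 ∨ c * c = z

/-- the Sylow subgroup normal in the centraliser of `x` -/
structure Sy (p : ℕ) {G : Type*} [Group G] (z x : G) (P : Subgroup G) : Prop where
  card : Nat.card P = p ^ 3
  mem : x ∈ P
  cen : ∀ a ∈ P, Commute a x
  pow : ∀ a ∈ P, a ^ p = 1
  comm : ∀ a ∈ P, ∀ b ∈ P, a * b * a⁻¹ * b⁻¹ ∈ zpowers x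
  neg : ∀ a ∈ P, z * a * z⁻¹ * a ∈ zpowers x
  uniq : ∀ a, Commute a x → (∃ k, a ^ p ^ k = 1) → a ∈ P

/-- the configuration in the quotient of the centraliser of the involution -/
structure HypQ (p : ℕ) {L : Type*} [Group L] (y : L) : Prop where
  oy : orderOf y = p
  cardL : ¬ p ^ 2 ∣ Nat.card L
  cardY : Nat.card (centralizer ({y} : Set L)) = 12 * p
  pow : ∀ b, Commute b y → b ^ (2 * p) = 1 ∨ b ^ (3 * p) = 1
  four : ∃ (s : L) (l : ℕ), s * y * s⁻¹ = y ^ l ∧ p ∣ l ^ 2 + 1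

end CfsgLib.RV
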