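import Mathlib
import Cfsg.Agent.Lib.RV.Defs
import Cfsg.Agent.Lib.TezYag.Basic

/-!
# Package HEI: the Heisenberg group (plans/RV.md)
-/

set_option autoImplicit false
set_option maxHeartbeats 400000

namespace CfsgLib.RV

open Subgroup Matrix Cfsg CfsgLib.Fusion

variable {p : ℕ} [hp : Fact p.Prime]

namespace Hei

theorem two_ne (hp2 : p ≠ 2) : (2 : ZMod p) ≠ 0 := fun h =>
  hp2 ((Nat.prime_dvd_prime_iff_eq hp.out Nat.prime_two).1 ((ZMod.natCast_eq_zero_iff 2 p).1 (by exact_mod_cast h)))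

theorem om_eq_zero_iff {v w : V2 p} (hv : v ≠ 0) : om w v = 0 ↔ ∃ t : ZMod p, w = t • v := by
  constructor
  · intro h
    unfold om at h
    by_cases h0 : v 0 = 0
    · have h1 : v 1 ≠ 0 := fun h1 => hv (by ext i; fin_cases i <;> simp [h0, h1])
      refine ⟨w 1 / v 1, ?_⟩
      ext i; fin_cases i
      · simp only [Fin.zero_eta, Pi.smul_apply, smul_eq_mul, h0, mul_zero, sub_zero] at h ⊢
        exact (mul_eq_zero.1 h).resolve_right h1
      · simp [h1]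
    · refine ⟨w 0 / v 0, ?_⟩
      ext i; fin_cases i
      · simp [h0]
      · simp only [Fin.mk_one, Pi.smul_apply, smul_eq_mul]
        field_simp
        linear_combination -h
  · rintro ⟨t, rfl⟩
    simp [om]; ring

theorem eq_gen (a : Hs p) : a = (⟨![1, 0], 0⟩ : Hs p) ^ (a.v 0).val * (⟨![0, 1], 0⟩ : Hs p) ^ (a.v 1).val *
    (⟨0, 1⟩ : Hs p) ^ (a.c - a.v 0 * a.v 1).val := by
  simp only [Hs.pow_eq, ZMod.natCast_val, ZMod.cast_id', id_eq]
  refine Hs.ext ?_ ?_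
  · ext i; fin_cases i <;> simp
  · simp [om]

theorem hom_ext {G : Type*} [Group G] {f g : Hs p →* G} (h0 : f ⟨![1, 0], 0⟩ = g ⟨![1, 0], 0⟩)
    (h1 : f ⟨![0, 1], 0⟩ = g ⟨![0, 1], 0⟩) (h2 : f ⟨0, 1⟩ = g ⟨0, 1⟩) (a : Hs p) : f a = g a := by
  rw [eq_gen a]
  simp only [map_mul, map_pow, h0, h1, h2]

theorem comm_eq (a b : Hs p) : a * b * a⁻¹ * b⁻¹ = ⟨0, 2 * om a.v b.v⟩ := by
  rw [Hs.conj_eq]
  exact Hs.ext (by simp) (by simp [om]; ring)

theorem pow_conj {G : Type*} [Group G] {a b y : G} (h : a * b * a⁻¹ = y * b) (hy : Commute a y) (m : ℕ) :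
    a ^ m * b * (a ^ m)⁻¹ = y ^ m * b := by
  induction m with
  | zero => simp
  | succ m ih =>
    calc a ^ (m + 1) * b * (a ^ (m + 1))⁻¹ = a * (a ^ m * b * (a ^ m)⁻¹) * a⁻¹ := by rw [pow_succ']; group
      _ = y ^ m * (a * b * a⁻¹) := by rw [ih, ← mul_assoc, (hy.pow_right m).eq]; group
      _ = _ := by rw [h, pow_succ, mul_assoc]

end Hei

open Hei


theorem aut_eq (hp2 : p ≠ 2) (α : MulAut (Hs p)) : ∃ (s : Hs p) (A : G2 p), ∀ a, α a = s * act A a * s⁻¹ := by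
  have h2 := two_ne hp2
  set x := α ⟨![1, 0], 0⟩ with hx
  set y := α ⟨![0, 1], 0⟩ with hy
  have h3 : α ⟨0, 1⟩ = ⟨0, om x.v y.v⟩ := by
    have e : (⟨0, 1⟩ : Hs p) = ((⟨![1, 0], 0⟩ : Hs p) * ⟨![0, 1], 0⟩ * (⟨![1, 0], 0⟩ : Hs p)⁻¹ *
        (⟨![0, 1], 0⟩ : Hs p)⁻¹) ^ (2⁻¹ : ZMod p).val := by
      rw [comm_eq, Hs.pow_eq]
      exact Hs.ext (by simp) (by simp [om, h2])
    rw [e, map_pow, map_mul, map_mul, map_mul, map_inv, map_inv, ← hx, ← hy, comm_eq, Hs.pow_eq]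
    exact Hs.ext (by simp) (by simp [h2])
  have h4 : om x.v y.v ≠ 0 := fun h => by
    rw [h] at h3
    exact one_ne_zero (congrArg Hs.c (α.injective (h3.trans (map_one α).symm)))
  have h5 : (!![x.v 0, y.v 0; x.v 1, y.v 1] : Matrix (Fin 2) (Fin 2) (ZMod p)).det = om x.v y.v := by
    simp [det_fin_two, om]; ring
  let A : G2 p := GeneralLinearGroup.mkOfDetNeZero _ (h5 ▸ h4)
  have hA : A.1 = !![x.v 0, y.v 0; x.v 1, y.v 1] := rfl
  let s : Hs p := ⟨(y.c / (2 * om x.v y.v)) • x.v - (x.c / (2 * om x.v y.v)) • y.v, 0⟩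
  have e0 : A.1 *ᵥ ![1, 0] = x.v := by ext i; fin_cases i <;> simp [hA, mulVec, dotProduct, Fin.sum_univ_two]
  have e1 : A.1 *ᵥ ![0, 1] = y.v := by ext i; fin_cases i <;> simp [hA, mulVec, dotProduct, Fin.sum_univ_two]
  refine ⟨s, A, hom_ext (f := α.toMonoidHom) (g := (MulAut.conj s).toMonoidHom.comp (act A).toMonoidHom) ?_ ?_ ?_⟩
  · change x = s * act A _ * s⁻¹
    rw [Hs.conj_eq, act_mk, e0]
    refine Hs.ext rfl ?_
    have : om s.v x.v = x.c / (2 * om x.v y.v) * om x.v y.v := by simp [s, om]; ring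
    simp only [this, mul_zero, zero_add]
    field_simp
  · change y = s * act A _ * s⁻¹
    rw [Hs.conj_eq, act_mk, e1]
    refine Hs.ext rfl ?_
    have : om s.v y.v = y.c / (2 * om x.v y.v) * om x.v y.v := by simp [s, om]; ring
    simp only [this, mul_zero, zero_add]
    field_simp
  · change α _ = s * act A _ * s⁻¹
    rw [Hs.conj_eq, act_mk, h3, hA, h5]
    exact Hs.ext (by simp) (by simp [om])

theorem centralizer_eq (hp2 : p ≠ 2) {a : Hs p} (ha : a.v ≠ 0) : centralizer ({a} : Set (Hs p)) = VV a.v := by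
  ext b
  rw [mem_centralizer_singleton_iff, Hs.comm_iff, mul_eq_zero, or_iff_right (two_ne hp2), om_eq_zero_iff ha, mem_VV]

theorem v_eq_zero_of_comm (hp2 : p ≠ 2) {a : Hs p} (h : ∀ b, b * a = a * b) : a.v = 0 := by
  have h1 := fun b => (mul_eq_zero.1 (Hs.comm_iff.1 (h b))).resolve_left (two_ne hp2)
  have h2 := h1 ⟨![1, 0], 0⟩
  have h3 := h1 ⟨![0, 1], 0⟩
  simp [om] at h2 h3
  ext i; fin_cases i <;> simp [h2, h3]

theorem exists_conj_c (hp2 : p ≠ 2) {v : V2 p} (hv : v ≠ 0) (c d : ZMod p) :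
    ∃ s : Hs p, s * ⟨v, c⟩ * s⁻¹ = ⟨v, d⟩ := by
  have h2 := two_ne hp2
  obtain ⟨w, hw⟩ : ∃ w : V2 p, om w v ≠ 0 := by
    by_contra! h
    exact hv (v_eq_zero_of_comm hp2 (a := ⟨v, 0⟩) fun b => Hs.comm_iff.2 (by rw [h, mul_zero]))
  refine ⟨⟨((d - c) / (2 * om w v)) • w, 0⟩, ?_⟩
  rw [Hs.conj_eq]
  refine Hs.ext rfl ?_
  have : om (((d - c) / (2 * om w v)) • w) v = (d - c) / (2 * om w v) * om w v := by simp [om]; ring
  simp only [this]
  field_simp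
  ring

theorem card_VV {v : V2 p} (hv : v ≠ 0) : Nat.card (VV v) = p ^ 2 := by
  have h : Function.Bijective fun x : ZMod p × ZMod p => (⟨⟨x.1 • v, x.2⟩, x.1, rfl⟩ : VV v) :=
    ⟨fun x y e => Prod.ext (smul_left_injective _ hv (congrArg (fun a : VV v => a.1.v) e))
      (congrArg (fun a : VV v => a.1.c) e), fun ⟨a, t, ht⟩ => ⟨(t, a.c), Subtype.ext (Hs.ext ht.symm rfl)⟩⟩
  rw [← Nat.card_eq_of_bijective _ h, Nat.card_prod, Nat.card_zmod, sq]

theorem VV_comm {v : V2 p} {a b : Hs p} (ha : a ∈ VV v) (hb : b ∈ VV v) : a * b = b * a := by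
  obtain ⟨s, hs⟩ := ha
  obtain ⟨t, ht⟩ := hb
  rw [Hs.comm_iff, hs, ht]
  simp [om]; ring_nf; simp

theorem VV_eq_of_om {v w : V2 p} (hv : v ≠ 0) (hw : w ≠ 0) (h : om v w = 0) : VV v = VV w := by
  have key : ∀ {v w : V2 p}, w ≠ 0 → om v w = 0 → VV v ≤ VV w := fun hw h a ⟨s, hs⟩ => by
    obtain ⟨t, ht⟩ := (om_eq_zero_iff hw).1 h
    exact ⟨s * t, by rw [hs, ht, mul_smul]⟩
  exact le_antisymm (key hw h) (key hv (by unfold om at h ⊢; linear_combination -h))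

theorem eq_VV_of_card (hp2 : p ≠ 2) {P : Subgroup (Hs p)} (h : Nat.card P = p ^ 2) : ∃ v, v ≠ 0 ∧ P = VV v := by
  have hc := IsPGroup.isMulCommutative_of_card_eq_prime_sq h
  obtain ⟨a, ha, hv⟩ : ∃ a ∈ P, a.v ≠ 0 := by
    by_contra! hn
    have h1 := Nat.card_le_card_of_injective (fun a : P => a.1.c) fun a b e =>
      Subtype.ext (Hs.ext (by rw [hn a a.2, hn b b.2]) e)
    rw [h, Nat.card_zmod] at h1
    have := hp.out.one_lt
    nlinarith
  refine ⟨a.v, hv, eq_of_le_of_card_ge ?_ (by rw [h, card_VV hv])⟩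
  rw [← centralizer_eq hp2 hv]
  exact fun b hb => mem_centralizer_singleton_iff.2 (congrArg Subtype.val (hc.is_comm.comm ⟨b, hb⟩ ⟨a, ha⟩))

theorem eq_VV_of_centric (hp2 : p ≠ 2) {P : Subgroup (Hs p)} (hP : P ≠ ⊤) (hc : centralizer (P : Set (Hs p)) ≤ P) :
    ∃ v, v ≠ 0 ∧ P = VV v := by
  have hz : ∀ u : Hs p, u.v = 0 → u ∈ P := fun u hu => hc fun b _ => Hs.comm_iff.2 (by simp [hu, om])
  obtain ⟨a, ha, hv⟩ : ∃ a ∈ P, a.v ≠ 0 := by
    by_contra! hn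
    exact hP (eq_top_iff.2 fun u _ => hc fun b hb => Hs.comm_iff.2 (by simp [hn b hb, om]))
  refine ⟨a.v, hv, ?_⟩
  have h1 : P ≤ VV a.v := fun b hb => by
    by_contra hn
    have h2 : om b.v a.v ≠ 0 := fun e => hn ((om_eq_zero_iff hv).1 e)
    refine hP (eq_top_iff.2 fun u _ => ?_)
    have h3 := P.mul_mem (P.pow_mem ha (om b.v u.v / om b.v a.v).val) (P.pow_mem hb (om u.v a.v / om b.v a.v).val)
    refine (P.mul_mem_cancel_right (P.inv_mem h3)).1 (hz _ ?_)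
    simp only [Hs.pow_eq, Hs.mul_v, Hs.inv_v, ZMod.natCast_val, ZMod.cast_id', id_eq]
    ext i
    simp only [Pi.add_apply, Pi.neg_apply, Pi.smul_apply, smul_eq_mul, Pi.zero_apply]
    field_simp
    fin_cases i <;> simp [om] <;> ring
  exact le_antisymm h1 fun u hu => hc fun b hb => VV_comm (h1 hb) hu

variable {G : Type*} [Group G]

/-- generators and relations -/
theorem exists_hom (hp2 : p ≠ 2) {a b x : G} (ha : a ^ p = 1) (hb : b ^ p = 1) (ox : orderOf x = p)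
    (hab : a * b * a⁻¹ * b⁻¹ = x ^ 2) (hax : Commute a x) (hbx : Commute b x) :
    ∃ θ : Hs p →* G, Function.Injective θ ∧ θ ⟨![1, 0], 0⟩ = a ∧ θ ⟨![0, 1], 0⟩ = b ∧ θ ⟨0, 1⟩ = x := by
  have hx : x ^ p = 1 := ox ▸ pow_orderOf_eq_one x
  have key : ∀ i j : ZMod p, zpw a i * zpw b j = zpw x (2 * i * j) * (zpw b j * zpw a i) := fun i j => by
    obtain ⟨m, rfl⟩ := ZMod.natCast_zmod_surjective i
    obtain ⟨n, rfl⟩ := ZMod.natCast_zmod_surjective j
    have h1 : a * b ^ n * a⁻¹ = (x ^ 2) ^ n * b ^ n := by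
      rw [← (hbx.symm.pow_left 2).mul_pow, ← conj_pow, ← hab, inv_mul_cancel_right]
    have h2 := pow_conj h1 ((hax.pow_right 2).pow_right n) m
    rw [show (2 * m * n : ZMod p) = (2 * n * m : ℕ) by push_cast; ring, zpw_natCast ha, zpw_natCast hb,
      zpw_natCast hx, pow_mul, pow_mul, ← mul_assoc, ← h2, inv_mul_cancel_right]
  have ca : ∀ i k : ZMod p, Commute (zpw x k) (zpw a i) := fun i k => commute_zpw hax.symm k i
  have cb : ∀ i k : ZMod p, Commute (zpw x k) (zpw b i) := fun i k => commute_zpw hbx.symm k i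
  let θ : Hs p →* G := MonoidHom.mk' (fun u => zpw a (u.v 0) * zpw b (u.v 1) * zpw x (u.c - u.v 0 * u.v 1))
    fun u w => by
      simp only [Hs.mul_v, Hs.mul_c, Pi.add_apply]
      calc _ = zpw a (u.v 0) * (zpw a (w.v 0) * zpw b (u.v 1) * zpw b (w.v 1)) *
            zpw x (u.c + w.c + om u.v w.v - (u.v 0 + w.v 0) * (u.v 1 + w.v 1)) := by
            rw [zpw_add ha, zpw_add hb]; simp only [mul_assoc]
        _ = zpw a (u.v 0) * (zpw b (u.v 1) * zpw a (w.v 0) * zpw b (w.v 1)) * (zpw x (2 * w.v 0 * u.v 1) *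
            zpw x (u.c + w.c + om u.v w.v - (u.v 0 + w.v 0) * (u.v 1 + w.v 1))) := by
            rw [key, mul_assoc (zpw x _), (((cb _ _).mul_right (ca _ _)).mul_right (cb _ _)).eq]
            simp only [mul_assoc]
        _ = zpw a (u.v 0) * zpw b (u.v 1) * (zpw a (w.v 0) * zpw b (w.v 1) * zpw x (u.c - u.v 0 * u.v 1)) *
            zpw x (w.c - w.v 0 * w.v 1) := by
            rw [← zpw_add hx, show 2 * w.v 0 * u.v 1 + (u.c + w.c + om u.v w.v - (u.v 0 + w.v 0) * (u.v 1 + w.v 1)) =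
              (u.c - u.v 0 * u.v 1) + (w.c - w.v 0 * w.v 1) by unfold om; ring, zpw_add hx]
            simp only [mul_assoc]
        _ = _ := by
            rw [← ((ca _ _).mul_right (cb _ _)).eq]
            simp only [mul_assoc]
  have hθ : ∀ u, θ u = zpw a (u.v 0) * zpw b (u.v 1) * zpw x (u.c - u.v 0 * u.v 1) := fun _ => rfl
  have hz : ∀ c, θ ⟨0, c⟩ = zpw x c := fun c => by simp [hθ, zpw_zero]
  refine ⟨θ, (injective_iff_map_eq_one _).2 fun u hu => ?_, by simp [hθ, zpw_zero, zpw_one ha],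
    by simp [hθ, zpw_zero, zpw_one hb], by rw [hz, zpw_one hx]⟩
  have h1 : u.v = 0 := v_eq_zero_of_comm hp2 fun w => Hs.comm_iff.2 ((zpw_eq_one_iff ox).1 (by
    rw [← hz, ← comm_eq]; simp [hu]))
  have h2 : u = ⟨0, u.c⟩ := Hs.ext h1 rfl
  rw [h2, hz, zpw_eq_one_iff ox] at hu
  exact Hs.ext h1 hu

theorem exists_crd (hp2 : p ≠ 2) {P : Subgroup G} {x : G} (hc : Nat.card P = p ^ 3) (hx : x ∈ P) (ox : orderOf x = p)
    (cen : ∀ a ∈ P, Commute a x) (pow : ∀ a ∈ P, a ^ p = 1)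
    (comm : ∀ a ∈ P, ∀ b ∈ P, a * b * a⁻¹ * b⁻¹ ∈ zpowers x) (hna : ∃ a ∈ P, ∃ b ∈ P, a * b ≠ b * a) :
    ∃ θ : Hs p →* G, Crd P θ ∧ θ ⟨0, 1⟩ = x := by
  obtain ⟨a, ha, b, hb, hab⟩ := hna
  have hx' : x ^ p = 1 := pow x hx
  obtain ⟨k, hk⟩ := (mem_zpowers_iff_zpw hx').1 (comm a ha b hb)
  have hk0 : k ≠ 0 := fun e => hab (by
    rw [e, zpw_zero] at hk
    exact commutatorElement_eq_one_iff_mul_comm.1 hk.symm)
  have h1 := pow_conj (a := a) (b := b) (y := zpw x k) (by rw [hk, inv_mul_cancel_right])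
    ((cen a ha).zpow_right _) (2 / k).val
  have ha' := P.pow_mem ha (2 / k).val
  obtain ⟨θ, h2, h3, h4, h5⟩ := exists_hom hp2 (pow _ ha') (pow b hb) ox (by
    rw [h1, mul_inv_cancel_right, zpw_pow hx', ← zpw_natCast hx' 2]
    congr 1
    simp [hk0]) (cen _ ha') (cen b hb)
  have : Finite P := Nat.finite_of_card_ne_zero (hc ▸ pow_ne_zero _ hp.out.ne_zero)
  refine ⟨θ, ⟨h2, eq_of_le_of_card_ge ?_ ?_⟩, h5⟩
  · rintro _ ⟨u, rfl⟩
    rw [eq_gen u, map_mul, map_mul, map_pow, map_pow, map_pow, h3, h4, h5]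
    exact P.mul_mem (P.mul_mem (P.pow_mem ha' _) (P.pow_mem hb _)) (P.pow_mem hx _)
  · rw [hc, ← Hs.card_eq p]
    exact (Nat.card_congr (MonoidHom.ofInjective h2).toEquiv).le

theorem exists_crd' (hp2 : p ≠ 2) {S : Subgroup G} [Finite S] (hE : IsExtraspecial p S) (hc : Nat.card S = p ^ 3)
    (he : Monoid.exponent S = p) : ∃ θ : Hs p →* G, Crd S θ := by
  obtain ⟨z, h⟩ := TezYag.exists_XE hE hc he
  obtain ⟨θ, h1, -⟩ := exists_crd hp2 hc z.2 (by rw [orderOf_coe, h.ord])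
    (fun a ha => congrArg Subtype.val (h.cen ⟨a, ha⟩)) (fun a ha => congrArg Subtype.val (h.pow ⟨a, ha⟩))
    (fun a ha b hb => by
      obtain ⟨k, hk⟩ := h.comm ⟨a, ha⟩ ⟨b, hb⟩
      exact ⟨k, congrArg Subtype.val hk⟩) (by
      by_contra! hn
      have h2 : zpowers z = ⊤ := eq_top_iff.2 fun a _ => h.zen a fun b => Subtype.ext (hn _ b.2 _ a.2)
      have h3 := Nat.card_zpowers z
      rw [h2, card_top, hc, h.ord] at h3
      exact absurd (Nat.pow_right_injective hp.out.two_le (h3.trans (pow_one p).symm)) (by norm_num))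
  exact ⟨θ, h1⟩

theorem Crd.exists_act (hp2 : p ≠ 2) {P : Subgroup G} {θ : Hs p →* G} (h : Crd P θ) {g : G}
    (hg : g ∈ normalizer (P : Set G)) : ∃ (s : Hs p) (A : G2 p), ∀ a, g * θ a * g⁻¹ = θ (s * act A a * s⁻¹) := by
  let e : Hs p ≃* P := (MonoidHom.ofInjective h.inj).trans (MulEquiv.subgroupCongr h.range)
  have he : ∀ a, (e a : G) = θ a := fun _ => rfl
  obtain ⟨s, A, hs⟩ := aut_eq hp2 ((e.trans (normalizerMonoidHom P ⟨g, hg⟩)).trans e.symm)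
  refine ⟨s, A, fun a => ?_⟩
  rw [← hs, ← he (_root_.MulEquiv.trans _ _ _)]
  exact (congrArg Subtype.val (e.apply_symm_apply (normalizerMonoidHom P ⟨g, hg⟩ (e a)))).symm

end CfsgLib.RV
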