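import Mathlib
import Cfsg.Agent.Lib.RV.Heis
import Cfsg.Agent.Lib.Fusion.Sat

/-!
# Package FAB: maps of a saturated system on the group and on its planes (plans/RV.md)
-/

set_option autoImplicit false

namespace CfsgLib.RV

open Subgroup Matrix Cfsg CfsgLib.Fusion

variable {p : ℕ} [hp : Fact p.Prime] {Ω : Type*} [Group Ω] {S : Subgroup Ω} {F : FusionSystem S} {θ : Hs p →* Ω}

theorem Crd.finite (h : Crd S θ) : Finite S := by
  rw [← h.range]
  exact Finite.of_surjective θ.rangeRestrict θ.rangeRestrict_surjective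

theorem Crd.isPGroup (h : Crd S θ) : IsPGroup p S := by
  intro x
  obtain ⟨a, ha⟩ := h.exists_eq x.2
  refine ⟨1, Subtype.ext ?_⟩
  rw [pow_one, Subgroup.coe_pow, ← ha, ← map_pow, Hs.pow_p, map_one, Subgroup.coe_one]

namespace FAB

theorem mk_mem (θ : Hs p →* Ω) (v : V2 p) (t u : ZMod p) : θ ⟨t • v, u⟩ ∈ (VV v).map θ := ⟨_, ⟨t, rfl⟩, rfl⟩

theorem x_mem (θ : Hs p →* Ω) (v : V2 p) (u : ZMod p) : θ ⟨v, u⟩ ∈ (VV v).map θ := ⟨_, ⟨1, (one_smul _ _).symm⟩, rfl⟩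

theorem z_mem (θ : Hs p →* Ω) (v : V2 p) (u : ZMod p) : θ ⟨0, u⟩ ∈ (VV v).map θ := ⟨_, ⟨0, (zero_smul _ _).symm⟩, rfl⟩

theorem exists_mk {v : V2 p} {x : Ω} (hx : x ∈ (VV v).map θ) : ∃ t u : ZMod p, x = θ ⟨t • v, u⟩ := by
  obtain ⟨a, ⟨t, ht⟩, rfl⟩ := hx
  exact ⟨t, a.c, congrArg θ (Hs.ext ht rfl)⟩

theorem plane_le (h : Crd S θ) (v : V2 p) : (VV v).map θ ≤ S := by
  rintro _ ⟨a, -, rfl⟩
  exact h.mem a

theorem pow_val (a : Hs p) (t : ZMod p) : a ^ t.val = ⟨t • a.v, t * a.c⟩ := by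
  rw [Hs.pow_eq, ZMod.natCast_zmod_val]

/-- a homomorphism on a plane is linear -/
theorem lin {v : V2 p} {f : Ω → Ω} (hf : IsHomOn ((VV v).map θ) f) {A B : Hs p} (e1 : f (θ ⟨v, 0⟩) = θ A)
    (e2 : f (θ ⟨0, 1⟩) = θ B) (t u : ZMod p) :
    f (θ ⟨t • v, u⟩) = θ ⟨t • A.v + u • B.v, t * A.c + u * B.c + t * u * om A.v B.v⟩ := by
  have e : (⟨t • v, u⟩ : Hs p) = ⟨v, 0⟩ ^ t.val * ⟨0, 1⟩ ^ u.val := by
    rw [pow_val, pow_val]
    exact Hs.ext (by simp) (by simp [om])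
  rw [e, map_mul, map_pow, map_pow, hf.map_mul (pow_mem (x_mem θ v 0) _) (pow_mem (z_mem θ v 1) _),
    hf.map_pow (x_mem θ v 0), hf.map_pow (z_mem θ v 1), e1, e2, ← map_pow, ← map_pow, ← map_mul, pow_val, pow_val]
  exact congrArg θ (Hs.ext rfl (by simp [om]; ring))

theorem conj_mk (θ : Hs p →* Ω) (s : Hs p) (v : V2 p) (t u : ZMod p) :
    θ s * θ ⟨t • v, u⟩ * (θ s)⁻¹ = θ ⟨t • v, u + t * (2 * om s.v v)⟩ := by
  rw [← map_inv, ← map_mul, ← map_mul, Hs.conj_eq]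
  exact congrArg θ (Hs.ext rfl (by simp [om]; ring))

theorem exists_om (hp2 : p ≠ 2) {v : V2 p} (hv : v ≠ 0) (c : ZMod p) : ∃ s : Hs p, 2 * om s.v v = c := by
  obtain ⟨s, hs⟩ := exists_conj_c hp2 hv 0 c
  rw [Hs.conj_eq] at hs
  exact ⟨s, by simpa using congrArg Hs.c hs⟩

theorem le_norm (h : Crd S θ) (v : V2 p) : S ≤ normalizer (((VV v).map θ : Subgroup Ω) : Set Ω) := by
  intro g hg
  have := h.finite
  have := finite_of_le (plane_le h v)
  obtain ⟨s, rfl⟩ := h.exists_eq hg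
  refine mem_normalizer_of_conj_mem fun x hx => ?_
  obtain ⟨t, u, rfl⟩ := exists_mk hx
  rw [conj_mk]
  exact mk_mem θ v _ _

theorem exists_plane (hp2 : p ≠ 2) (h : Crd S θ) {Q : Subgroup Ω} (hQ : Q ≤ S) (hc : Nat.card Q = p ^ 2) :
    ∃ w, w ≠ 0 ∧ Q = (VV w).map θ := by
  have e : (Q.comap θ).map θ = Q := map_comap_eq_self (h.range ▸ hQ)
  obtain ⟨w, hw, e'⟩ := eq_VV_of_card hp2 (P := Q.comap θ) (by rw [← hc, ← card_map_of_injective h.inj, e])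
  exact ⟨w, hw, by rw [← e', e]⟩

theorem card_plane (h : Crd S θ) {v : V2 p} (hv : v ≠ 0) : Nat.card ((VV v).map θ) = p ^ 2 := by
  rw [card_map_of_injective h.inj, card_VV hv]

/-- the matrix is induced on the plane -/
def Re (F : FusionSystem S) (θ : Hs p →* Ω) (v : V2 p) (a b c d : ZMod p) : Prop :=
  ∃ f, Mor F ((VV v).map θ) f ∧ ∀ t u : ZMod p, f (θ ⟨t • v, u⟩) = θ ⟨(a * t + b * u) • v, c * t + d * u⟩

theorem Re.mul {v : V2 p} {a b c d a' b' c' d' a'' b'' c'' d'' : ZMod p} (h : Re F θ v a b c d)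
    (h' : Re F θ v a' b' c' d') (ea : a'' = a * a' + b * c') (eb : b'' = a * b' + b * d') (ec : c'' = c * a' + d * c')
    (ed : d'' = c * b' + d * d') : Re F θ v a'' b'' c'' d'' := by
  obtain ⟨f, hf, e⟩ := h
  obtain ⟨g, hg, e'⟩ := h'
  refine ⟨f ∘ g, hg.comp hf fun x hx => ?_, fun t u => ?_⟩
  · obtain ⟨t, u, rfl⟩ := exists_mk hx
    rw [e']; exact mk_mem θ v _ _
  · rw [Function.comp_apply, e', e, ea, eb, ec, ed]
    congr 2
    · congr 1; ring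
    · ring

theorem re_ll (hp2 : p ≠ 2) (h : Crd S θ) {v : V2 p} (hv : v ≠ 0) (c : ZMod p) : Re F θ v 1 0 c 1 := by
  obtain ⟨s, hs⟩ := exists_om hp2 hv c
  refine ⟨_, Mor.conj F (plane_le h v) (h.mem s), fun t u => ?_⟩
  rw [conj_mk, hs]
  congr 2
  · congr 1; ring
  · ring

end FAB

open FAB

theorem top_eq (hp2 : p ≠ 2) (h : Crd S θ) {f : Ω → Ω} (hf : Mor F S f) :
    ∃ A ∈ WF F h, ∃ s, ∀ a, f (θ a) = θ (s * act A a * s⁻¹) := by
  have ex : ∀ a, ∃ b, θ b = f (θ a) := fun a => h.exists_eq (hf.mem (h.mem a))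
  choose g hg using ex
  let φ : Hs p →* Hs p := MonoidHom.mk' g fun a b => h.inj (by
    rw [hg, map_mul, map_mul, hg, hg, hf.map_mul (h.mem a) (h.mem b)])
  have hi : Function.Injective φ := fun a b e => h.inj (hf.inj (h.mem a) (h.mem b) (by
    rw [← hg, ← hg]; exact congrArg θ e))
  obtain ⟨s, A, e⟩ := aut_eq hp2 (MulEquiv.ofBijective φ (Finite.injective_iff_bijective.1 hi))
  have e' : ∀ a, f (θ a) = θ (s * act A a * s⁻¹) := fun a => by rw [← hg, ← e a]; rfl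
  refine ⟨A, ⟨_, hf.conj_left (h.mem s⁻¹), fun a => ?_⟩, s, e'⟩
  show θ s⁻¹ * f (θ a) * (θ s⁻¹)⁻¹ = _
  rw [e', ← map_inv, ← map_mul, ← map_mul]
  congr 1; group

theorem centric_plane (hp2 : p ≠ 2) (h : Crd S θ) (F : FusionSystem S) {v : V2 p} (hv : v ≠ 0) :
    F.IsCentric ((VV v).map θ) := by
  refine ⟨plane_le h v, fun Q hQ g hg => ?_⟩
  obtain ⟨w, hw, rfl⟩ := exists_plane hp2 h (isConj_le_right hQ) (by rw [isConj_card hQ, card_plane h hv])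
  obtain ⟨hgS, hgc⟩ := mem_centralizerIn'.1 hg
  obtain ⟨a, rfl⟩ := h.exists_eq hgS
  refine ⟨a, ?_, rfl⟩
  have e := hgc _ (x_mem θ w 0)
  rw [← map_mul, ← map_mul] at e
  have : a ∈ centralizer ({(⟨w, 0⟩ : Hs p)} : Set (Hs p)) := mem_centralizer_singleton_iff.2 (h.inj e).symm
  rwa [centralizer_eq hp2 (a := ⟨w, 0⟩) hw] at this

theorem eq_plane_of_centric (hp2 : p ≠ 2) (h : Crd S θ) {P : Subgroup Ω} (hP : F.IsCentric P) (hne : P ≠ S) :
    ∃ v, v ≠ 0 ∧ P = (VV v).map θ := by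
  have e : (P.comap θ).map θ = P := map_comap_eq_self (h.range ▸ hP.1)
  obtain ⟨w, hw, e'⟩ := eq_VV_of_centric hp2 (P := P.comap θ)
    (fun e0 => hne (by rw [← e, e0, ← MonoidHom.range_eq_map, h.range])) (fun a ha => by
      refine centric_centralizerIn_le hP (mem_centralizerIn'.2 ⟨h.mem a, fun x hx => ?_⟩)
      obtain ⟨b, rfl⟩ := h.exists_eq (hP.1 hx)
      rw [← map_mul, ← map_mul, ha b hx])
  exact ⟨w, hw, by rw [← e', e]⟩

/-- a map on a plane which preserves the centre extends to the whole group -/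
theorem ext_plane (hp2 : p ≠ 2) (h : Crd S θ) (hF : F.IsSaturated p) {v : V2 p} (hv : v ≠ 0) {f : Ω → Ω}
    (hf : Mor F ((VV v).map θ) f) (hz : ∃ c, f (θ ⟨0, 1⟩) = θ ⟨0, c⟩) :
    ∃ A ∈ WF F h, ∃ s, ∀ a ∈ VV v, f (θ a) = θ (s * act A a * s⁻¹) := by
  have := h.finite
  obtain ⟨c, hc⟩ := hz
  obtain ⟨A, hA⟩ := h.exists_eq (hf.mem (x_mem θ v 0))
  have hl := lin hf.hom hA.symm hc
  have c0 : c ≠ 0 := fun e => by
    rw [e] at hc
    have := h.inj ((hf.eq_one (z_mem θ v 1) (hc.trans (map_one θ))).trans (map_one θ).symm)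
    exact one_ne_zero (congrArg Hs.c this)
  have A0 : A.v ≠ 0 := fun e => by
    have e1 := hl 1 (-A.c / c)
    have e2 : f (θ ⟨(1 : ZMod p) • v, -A.c / c⟩) = 1 := by
      rw [e1, ← map_one θ]
      exact congrArg θ (Hs.ext (by simp [e]) (by simp [om, e]; field_simp; ring))
    have := h.inj ((hf.eq_one (mk_mem θ v _ _) e2).trans (map_one θ).symm)
    exact hv (by simpa using congrArg Hs.v this)
  obtain ⟨g, hg, eg⟩ := sat_extend_centric h.isPGroup hF (centric_plane hp2 h F hv) hf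
  have hN : S ≤ Nf S ((VV v).map θ) f := fun y hy => by
    refine mem_Nf.2 ⟨hy, le_norm h v hy, ?_⟩
    obtain ⟨b, rfl⟩ := h.exists_eq hy
    obtain ⟨k, hk⟩ := exists_om hp2 A0 (c * (2 * om b.v v))
    refine ⟨θ k, h.mem k, fun x hx => ?_⟩
    obtain ⟨t, u, rfl⟩ := exists_mk hx
    rw [conj_mk, hl, hl, ← map_inv, ← map_mul, ← map_mul, Hs.conj_eq]
    refine congrArg θ (Hs.ext (by simp) ?_)
    have : om k.v (t • A.v) = t * om k.v A.v := by simp [om]; ring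
    simp only [smul_zero, add_zero, this]
    simp only [om, Pi.zero_apply, mul_zero, zero_mul, sub_zero, add_zero] at hk ⊢
    linear_combination (-t) * hk
  obtain ⟨B, hB, s, e⟩ := top_eq hp2 h (hg.mono hN)
  exact ⟨B, hB, s, fun a ha => by rw [← eg _ ⟨a, ha, rfl⟩, e]⟩

/-- an automorphism of a plane which moves the centre -/
theorem mem_EF_of_move (hp2 : p ≠ 2) (h : Crd S θ) {v : V2 p} (hv : v ≠ 0) {f : Ω → Ω}
    (hf : Mor F ((VV v).map θ) f) (hm : ∀ a ∈ VV v, f (θ a) ∈ (VV v).map θ)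
    (hz : ¬ ∃ c, f (θ ⟨0, 1⟩) = θ ⟨0, c⟩) : v ∈ EF F θ := by
  have := h.finite
  have := finite_of_le (plane_le h v)
  have hm' : ∀ x ∈ (VV v).map θ, f x ∈ (VV v).map θ := by
    rintro _ ⟨a, ha, rfl⟩
    exact hm a ha
  obtain ⟨g, hg, e1, -⟩ := hf.exists_inv' (hf.img_eq_self hm')
  obtain ⟨t, u, e⟩ := exists_mk (hm' _ (z_mem θ v 1))
  have t0 : t ≠ 0 := fun e0 => hz ⟨u, by rw [e, e0, zero_smul]⟩
  obtain ⟨s, hs⟩ := exists_om hp2 hv (u / t)
  have hk : Mor F ((VV v).map θ) (g ∘ fun x => θ s * x * (θ s)⁻¹) :=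
    (Mor.conj F (plane_le h v) (h.mem s)).comp hg fun x hx => conj_mem_of_mem_normalizer (le_norm h v (h.mem s)) hx
  refine ⟨hv, _, hk.mono (zpowers_le.2 (x_mem θ v 0)), t⁻¹, ?_⟩
  have e2 : (⟨v, 0⟩ : Hs p) = ⟨t • v, 0⟩ ^ (t⁻¹).val := by
    rw [pow_val]
    exact Hs.ext (by simp [smul_smul, inv_mul_cancel₀ t0]) (by simp)
  have e3 : (g ∘ fun x => θ s * x * (θ s)⁻¹) (θ ⟨t • v, 0⟩) = θ ⟨0, 1⟩ := by
    show g (θ s * θ ⟨t • v, 0⟩ * (θ s)⁻¹) = _
    rw [conj_mk, hs, zero_add, mul_div_cancel₀ _ t0, ← e, e1 _ (z_mem θ v 1)]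
  rw [e2, map_pow, hk.hom.map_pow (mk_mem θ v _ _), e3, ← map_pow, pow_val]
  exact congrArg θ (Hs.ext (by simp) (by simp))

/-- the automizer of an essential plane contains `SL₂(p)` -/
theorem sl2_plane (hp2 : p ≠ 2) (h : Crd S θ) (hF : F.IsSaturated p) {v : V2 p} (hv : v ∈ EF F θ)
    {a b c d : ZMod p} (hd : a * d - b * c = 1) : ∃ f, Mor F ((VV v).map θ) f ∧
      ∀ t u : ZMod p, f (θ ⟨t • v, u⟩) = θ ⟨(a * t + b * u) • v, c * t + d * u⟩ := by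
  have := h.finite
  obtain ⟨hv, f0, hf0, c0, e0⟩ := hv
  have := finite_of_le (plane_le h v)
  have hcen : F.IsFullyCentralized (img (zpowers (θ ⟨v, 0⟩)) f0) := by
    refine fullyCentralized_of_le_centralizer hf0.img_le fun y hy => ?_
    rw [hf0.hom.img_zpowers, e0]
    obtain ⟨k, rfl⟩ := h.exists_eq hy
    intro x hx
    obtain ⟨m, rfl⟩ := mem_zpowers_iff.1 hx
    have : Commute (θ k) (θ ⟨0, c0⟩) := by
      show _ = _
      rw [← map_mul, ← map_mul, Hs.cen_comm]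
    exact (this.zpow_right m).eq.symm
  obtain ⟨f1, hf1, e1⟩ := sat_extend_centralizer h.isPGroup hF hf0 hcen
  have hf1' : Mor F ((VV v).map θ) f1 := by
    refine hf1.mono (le_trans (fun y hy => ?_) le_sup_right)
    refine mem_centralizerIn'.2 ⟨plane_le h v hy, fun x hx => ?_⟩
    obtain ⟨m, rfl⟩ := mem_zpowers_iff.1 hx
    obtain ⟨k, hk, rfl⟩ := hy
    have : Commute (θ k) (θ ⟨v, 0⟩) := by
      show _ = _
      rw [← map_mul, ← map_mul, VV_comm hk ⟨1, (one_smul _ _).symm⟩]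
    exact (this.zpow_right m).eq.symm
  obtain ⟨w, hw, ew⟩ := exists_plane hp2 h hf1'.img_le (by rw [hf1'.card_img, card_plane h hv])
  obtain ⟨σ, hσ, eσ⟩ := sat_exists_mor_normalizerIn h.isPGroup hF
    (fullyNormalized_of_le_normalizer hf1'.img_le (by rw [ew]; exact le_norm h w)) hf1'.isConj
  have hσ' : Mor F S σ := hσ.mono fun y hy => mem_normalizerIn.2 ⟨hy, le_norm h v hy⟩
  obtain ⟨τ, hτ, eτ, -⟩ := hσ'.exists_inv' hσ'.img_top
  have hψ : Mor F ((VV v).map θ) (τ ∘ f1) := hf1'.comp hτ fun _ => hf1'.mem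
  have mψ : ∀ x ∈ (VV v).map θ, (τ ∘ f1) x ∈ (VV v).map θ := fun x hx => by
    have h1 := mem_img_of_mem f1 hx
    rw [← eσ, (hσ'.mono (plane_le h v)).mem_img] at h1
    obtain ⟨y, hy, e⟩ := h1
    rw [Function.comp_apply, ← e, eτ y (plane_le h v hy)]
    exact hy
  obtain ⟨A, -, s, eA⟩ := top_eq hp2 h hτ
  obtain ⟨c1, ex⟩ : ∃ c1, (τ ∘ f1) (θ ⟨v, 0⟩) = θ ⟨0, c1⟩ := by
    refine ⟨A.1.det * c0, ?_⟩
    rw [Function.comp_apply, e1 _ (mem_zpowers _), e0, eA, act_mk, mulVec_zero, Hs.cen_comm, mul_inv_cancel_right]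
  obtain ⟨t0, u0, ez⟩ := exists_mk (mψ _ (z_mem θ v 1))
  generalize τ ∘ f1 = ψ at hψ mψ ex ez
  have hl : ∀ t u : ZMod p, ψ (θ ⟨t • v, u⟩) = θ ⟨(u * t0) • v, t * c1 + u * u0⟩ := fun t u => by
    rw [lin hψ.hom ex ez]
    exact congrArg θ (Hs.ext (by simp [smul_smul]) (by simp [om]))
  have inj : ∀ t u : ZMod p, u * t0 = 0 → t * c1 + u * u0 = 0 → t = 0 ∧ u = 0 := fun t u h1 h2 => by
    have e2 : ψ (θ ⟨t • v, u⟩) = 1 := by rw [hl, h1, h2, zero_smul]; exact map_one θ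
    have e3 := h.inj ((hψ.eq_one (mk_mem θ v _ _) e2).trans (map_one θ).symm)
    exact ⟨(smul_eq_zero.1 (congrArg Hs.v e3)).resolve_right hv, congrArg Hs.c e3⟩
  have c10 : c1 ≠ 0 := fun e => one_ne_zero (inj 1 0 (by simp) (by simp [e])).1
  have t00 : t0 ≠ 0 := fun e => one_ne_zero (inj (-u0 / c1) 1 (by simp [e]) (by field_simp; ring)).2
  obtain ⟨χ, hχ, eχ, -⟩ := hψ.exists_inv' (hψ.img_eq_self mψ)
  have re_uu : ∀ b : ZMod p, Re F θ v 1 b 0 1 := fun b => by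
    obtain ⟨g, hg, eg⟩ := re_ll (F := F) hp2 h hv (b * c1 / t0)
    refine ⟨χ ∘ g ∘ ψ, (hψ.comp hg mψ).comp hχ fun x hx => ?_, fun t u => ?_⟩
    · obtain ⟨t, u, rfl⟩ := exists_mk hx
      rw [Function.comp_apply, hl, eg]; exact mk_mem θ v _ _
    · rw [Function.comp_apply, Function.comp_apply, hl, eg, ← eχ _ (mk_mem θ v (1 * t + b * u) (0 * t + 1 * u)), hl]
      congr 3
      · congr 1; ring
      · field_simp; ring
  have key : ∀ a b c d : ZMod p, a * d - b * c = 1 → c ≠ 0 → Re F θ v a b c d := fun a b c d hd hc => by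
    have h1 : Re F θ v a ((a - 1) / c) c 1 :=
      (re_uu ((a - 1) / c)).mul (re_ll hp2 h hv c) (by field_simp; ring) (by ring) (by ring) (by ring)
    exact h1.mul (re_uu ((d - 1) / c)) (by ring) (by field_simp; linear_combination -hd) (by ring)
      (by field_simp; ring)
  by_cases hc : c = 0
  · have a0 : a ≠ 0 := fun e => by simp [hc, e] at hd
    exact (re_ll hp2 h hv (-1)).mul (key a b (a + c) (b + d) (by linear_combination hd) (by rwa [hc, add_zero]))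
      (by ring) (by ring) (by ring) (by ring)
  · exact key a b c d hd hc

end CfsgLib.RV
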