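import Mathlib
import Cfsg.Agent.Lib.RV.FusA
import Cfsg.Agent.Lib.Fusion.Realized
import Cfsg.Agent.Lib.Fusion.Alperin

/-!
# Package ADM: the data of a saturated system are admissible (plans/RV.md)
-/

set_option autoImplicit false

namespace CfsgLib.RV

open Subgroup Matrix Cfsg CfsgLib.Fusion

variable {p : ℕ} [hp : Fact p.Prime]

namespace AdmP

theorem mulVec_ne (A : G2 p) {v : V2 p} (hv : v ≠ 0) : A.1 *ᵥ v ≠ 0 := fun e => hv (by
  have : (A⁻¹).1 *ᵥ (A.1 *ᵥ v) = v := by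
    rw [mulVec_mulVec, ← Units.val_mul, inv_mul_cancel, Units.val_one, one_mulVec]
  rw [← this, e, mulVec_zero])

theorem pow_val (v : V2 p) (t : ZMod p) : (⟨v, 0⟩ : Hs p) ^ t.val = ⟨t • v, 0⟩ := by
  rw [Hs.pow_eq]; simp

variable {Ω : Type*} [Group Ω] {S : Subgroup Ω} {F : FusionSystem S} {θ : Hs p →* Ω}

theorem cop (h : Crd S θ) (hF : F.IsSaturated p) : ¬ p ∣ Nat.card (WF F h) := by
  intro hd
  haveI := h.finite
  haveI := finite_autGroup F S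
  obtain ⟨⟨A, hA⟩, oA⟩ := exists_prime_orderOf_dvd_card' p hd
  rw [← Subgroup.orderOf_coe] at oA
  change orderOf A = p at oA
  obtain ⟨f, hf, e⟩ := hA
  obtain ⟨α, hα, eα⟩ := hf.exists_aut_of_mem fun x hx => hf.mem hx
  have h1 : ∀ (n : ℕ) a, extAut (α ^ n) (θ a) = θ (act (A ^ n) a) := by
    intro n
    induction n with
    | zero => intro a; simp
    | succ n ih =>
      intro a
      rw [pow_succ, pow_succ, extAut_mul_apply, eα _ (h.mem a), e, ih, map_mul act, MulAut.mul_apply]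
  have h2 : α ^ p = 1 := aut_eq_one fun x hx => by
    obtain ⟨a, rfl⟩ := h.exists_eq hx
    have hA1 : A ^ p = 1 := by have := pow_orderOf_eq_one A; rwa [oA] at this
    rw [h1, hA1, map_one, MulAut.one_apply]
  have h3 : IsPGroup p (zpowers α) := by
    rintro ⟨_, k, rfl⟩
    refine ⟨1, Subtype.ext ?_⟩
    simp only [pow_one, SubgroupClass.coe_pow, OneMemClass.coe_one]
    rw [← _root_.zpow_natCast, ← _root_.zpow_mul, mul_comm, _root_.zpow_mul, _root_.zpow_natCast, h2,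
      _root_.one_zpow]
  obtain ⟨y, -, hy⟩ := (sat_sylIn_top h.isPGroup hF).exists_conj h3 (zpowers_le.2 hα)
  have h4 : α ∈ Inn S := by
    have := conj_mem_Inn y⁻¹ (hy α (mem_zpowers α))
    simpa [mul_assoc] using this
  obtain ⟨g, hg, eg⟩ := mem_Inn.1 h4
  obtain ⟨s, rfl⟩ := h.exists_eq hg
  have h5 : ∀ v : V2 p, A.1 *ᵥ v = v := fun v => by
    have := eg _ (h.mem ⟨v, 0⟩)
    rw [eα _ (h.mem _), e, ← map_inv, ← map_mul, ← map_mul, Hs.conj_eq] at this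
    exact congrArg Hs.v (h.inj this)
  have h6 : A = 1 := Units.ext (by
    rw [Units.val_one]
    ext i j
    have := congrFun (h5 (Pi.single j 1)) i
    rw [mulVec_single_one] at this
    rw [one_apply]
    simpa [Pi.single_apply] using this)
  rw [h6, orderOf_one] at oA
  exact hp.out.one_lt.ne oA

theorem smul {v : V2 p} (hv : v ∈ EF F θ) {t : ZMod p} (ht : t ≠ 0) : t • v ∈ EF F θ := by
  obtain ⟨h0, f, hf, c, e⟩ := hv
  refine ⟨smul_ne_zero ht h0, f, hf.mono ?_, t * c, ?_⟩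
  · rw [zpowers_le, ← pow_val, map_pow]
    exact pow_mem (mem_zpowers _) _
  · rw [← pow_val, map_pow, hf.hom.map_pow (mem_zpowers _), e, ← map_pow, Hs.pow_eq]
    simp

theorem inv (h : Crd S θ) {A : G2 p} (hA : A ∈ WF F h) {v : V2 p} (hv : v ∈ EF F θ) : A.1 *ᵥ v ∈ EF F θ := by
  obtain ⟨h0, f, hf, c, e⟩ := hv
  obtain ⟨g, hg, eg⟩ := inv_mem hA
  have h1 : g (θ ⟨A.1 *ᵥ v, 0⟩) = θ ⟨v, 0⟩ := by
    rw [eg, act_mk, mulVec_mulVec, ← Units.val_mul, inv_mul_cancel, Units.val_one, one_mulVec, mul_zero]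
  have h2 : zpowers (θ ⟨A.1 *ᵥ v, 0⟩) ≤ S := zpowers_le.2 (h.mem _)
  refine ⟨mulVec_ne A h0, f ∘ g, (hg.mono h2).comp hf ?_, c, by rw [Function.comp_apply, h1, e]⟩
  rintro _ ⟨k, rfl⟩
  rw [hg.hom.map_zpow (h.mem _), h1]
  exact zpow_mem (mem_zpowers _) _

end AdmP

theorem adm (hp2 : p ≠ 2) {Ω : Type*} [Group Ω] {S : Subgroup Ω} {F : FusionSystem S} {θ : Hs p →* Ω} (h : Crd S θ)
    (hF : F.IsSaturated p) : Adm (WF F h) (EF F θ) := by
  refine ⟨AdmP.cop h hF, fun v hv => hv.1, fun v hv t ht => AdmP.smul hv ht, fun A hA v hv => AdmP.inv h hA hv,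
    fun v hv l => ?_⟩
  obtain ⟨f, hf, e⟩ := sl2_plane hp2 h hF hv (a := ((l⁻¹ : (ZMod p)ˣ) : ZMod p)) (b := 0) (c := 0) (d := l)
    (by rw [Units.inv_mul, mul_zero, sub_zero])
  have e0 : f (θ ⟨0, 1⟩) = θ ⟨0, l⟩ := by
    simpa only [zero_smul, mul_zero, zero_mul, add_zero, zero_add, mul_one] using e 0 1
  have e1 : f (θ ⟨v, 0⟩) = θ ⟨((l⁻¹ : (ZMod p)ˣ) : ZMod p) • v, 0⟩ := by
    simpa only [one_smul, mul_zero, zero_mul, add_zero, zero_add, mul_one] using e 1 0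
  obtain ⟨A, hA, s, eA⟩ := ext_plane hp2 h hF hv.1 hf ⟨l, e0⟩
  refine ⟨A, hA, ?_, ?_⟩
  · have := eA ⟨v, 0⟩ ⟨1, by simp⟩
    rw [e1, Hs.conj_eq] at this
    exact (congrArg Hs.v (h.inj this)).symm
  · have := eA ⟨0, 1⟩ ⟨0, by simp⟩
    rw [e0, Hs.conj_eq] at this
    have := congrArg Hs.c (h.inj this)
    simpa [om] using this.symm

variable {G : Type*} [Group G] {θ : Hs p →* G}

omit hp in
theorem WF_group {P : Subgroup G} (h : Crd P θ) : WF (groupFusionSystem P) h = WL ⊤ θ := by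
  ext A
  constructor
  · rintro ⟨f, hf, e⟩
    obtain ⟨-, -, g, hg⟩ := mor_group_iff.1 hf
    exact ⟨g, mem_top g, fun a => by rw [← e, hg _ (h.mem a)]⟩
  · rintro ⟨g, -, e⟩
    refine ⟨fun x => g * x * g⁻¹, mor_group_iff.2 ⟨le_rfl, fun x hx => ?_, g, fun _ _ => rfl⟩, e⟩
    obtain ⟨a, rfl⟩ := h.exists_eq hx
    rw [e]; exact h.mem _

omit hp in
theorem EF_group {P : Subgroup G} (h : Crd P θ) : EF (groupFusionSystem P) θ = EL ⊤ θ := by
  ext v
  constructor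
  · rintro ⟨h0, f, hf, c, e⟩
    obtain ⟨-, -, g, hg⟩ := mor_group_iff.1 hf
    exact ⟨h0, g, mem_top g, c, by rw [← e, hg _ (mem_zpowers _)]⟩
  · rintro ⟨h0, g, -, c, e⟩
    refine ⟨h0, fun x => g * x * g⁻¹, mor_group_iff.2 ⟨zpowers_le.2 (h.mem _), ?_, g, fun _ _ => rfl⟩, c, e⟩
    rintro _ ⟨k, rfl⟩
    simp only
    rw [← conj_zpow, e]
    exact zpow_mem (h.mem _) _

theorem SylH.exists_sylow [Finite G] (h : SylH θ) : ∃ T : Sylow p G, (T : Subgroup G) = θ.range := by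
  have h1 : IsPGroup p θ.range := Crd.isPGroup ⟨h.inj, rfl⟩
  exact (sylIn_of_not_dvd le_top h1 (by rw [relIndex_top_right]; exact h.idx)).exists_sylow

theorem SylH.adm (hp2 : p ≠ 2) [Finite G] (h : SylH θ) : Adm (WL ⊤ θ) (EL ⊤ θ) := by
  obtain ⟨T, hT⟩ := h.exists_sylow
  have hc : Crd (T : Subgroup G) θ := ⟨h.inj, hT.symm⟩
  rw [← WF_group hc, ← EF_group hc]
  exact RV.adm hp2 hc (groupFusion_saturated T)

theorem Rz.adm (hp2 : p ≠ 2) {W : Subgroup (G2 p)} {E : Set (V2 p)} (h : Rz W E) : Adm W E := by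
  obtain ⟨G, _, _, θ, h, rfl, rfl⟩ := h
  exact h.adm hp2

end CfsgLib.RV
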