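import Mathlib
import Cfsg.Agent.Lib.RV.Defs
import Cfsg.Agent.Lib.KInv.SpCo1

/-!
# Package CO: elements of order thirteen in the first Conway group (plans/RV.md)
-/

set_option autoImplicit false
set_option maxRecDepth 100000

namespace CfsgLib.RV

open Subgroup Matrix Cfsg CfsgLib.Fusion

open CfsgLib.Leech CfsgLib.Co1Rec CfsgLib.KInv.Co1

namespace CO

open Polynomial CfsgLib.KInv.CoT CfsgLib.MType

theorem totient_le_two {e : ℕ} (he : 0 < e) (h : e.totient ≤ 2) : e = 1 ∨ e = 2 ∨ e = 3 ∨ e = 4 ∨ e = 6 := by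
  have h1 : e ∣ 12 := (Nat.dvd_iff_prime_pow_dvd_dvd 12 e).2 fun p k hp hk => by
    rcases k with _ | k
    · simp
    have h2 := (Nat.le_of_dvd (Nat.totient_pos.2 he) (Nat.totient_dvd_of_dvd hk)).trans h
    rw [Nat.totient_prime_pow_succ hp] at h2
    have h3 := hp.two_le
    have h4 : 1 ≤ p ^ k := Nat.one_le_pow _ _ hp.pos
    have h5 : p ≤ 3 := by
      have : 1 * (p - 1) ≤ p ^ k * (p - 1) := Nat.mul_le_mul_right _ h4
      omega
    have h6 : k ≤ 1 := by
      by_contra h6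
      have : 2 ^ 2 * 1 ≤ p ^ k * (p - 1) := Nat.mul_le_mul
        ((Nat.pow_le_pow_left h3 2).trans (Nat.pow_le_pow_right hp.pos (by omega))) (by omega)
      omega
    interval_cases p <;> interval_cases k <;> simp_all
  have h2 := Nat.le_of_dvd (by norm_num) h1
  interval_cases e <;> first | decide | (exfalso; revert h h1; decide)

section Lin

variable {W : Type*} [AddCommGroup W] [Module ℚ W] [FiniteDimensional ℚ W]

theorem aeval_eq_zero {g : Module.End ℚ W} {N : ℕ} (hN : 0 < N) (h : g ^ N = 1) {q : ℚ[X]}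
    (hq : ∀ d, d ∣ N → cyclotomic d ℚ ∣ q ∨ LinearMap.ker (aeval g (cyclotomic d ℚ)) = ⊥) : aeval g q = 0 := by
  classical
  have h1 := congrArg (aeval g) (prod_cyclotomic_eq_X_pow_sub_one hN ℚ)
  rw [← Finset.prod_filter_not_mul_prod_filter _ fun d => cyclotomic d ℚ ∣ q, map_mul, map_sub, map_pow, aeval_X,
    map_one, h, sub_self] at h1
  have h2 : IsUnit (aeval g (∏ d ∈ N.divisors with ¬ cyclotomic d ℚ ∣ q, cyclotomic d ℚ)) := by
    refine Finset.prod_induction _ (fun r => IsUnit (aeval g r)) (fun a b ha hb => ?_) ?_ fun d hd => ?_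
    · rw [map_mul]; exact ha.mul hb
    · rw [map_one]; exact isUnit_one
    · rw [Finset.mem_filter] at hd
      exact (LinearMap.isUnit_iff_ker_eq_bot _).2 ((hq d (Nat.dvd_of_mem_divisors hd.1)).resolve_left hd.2)
  obtain ⟨r, hr⟩ : (∏ d ∈ N.divisors with cyclotomic d ℚ ∣ q, cyclotomic d ℚ) ∣ q :=
    Finset.prod_dvd_of_coprime (fun a _ b _ hab => cyclotomic.isCoprime_rat hab) fun d hd => (Finset.mem_filter.1 hd).2
  rw [hr, map_mul, h2.mul_right_eq_zero.1 h1, zero_mul]

omit [FiniteDimensional ℚ W] in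
theorem pow_apply_of_mem {g : Module.End ℚ W} {d : ℕ} {v : W} (h : aeval g (cyclotomic d ℚ) v = 0) :
    (g ^ d) v = v := by
  obtain ⟨r, hr⟩ := cyclotomic.dvd_X_pow_sub_one d ℚ
  have h1 := congrArg (fun q => aeval g q v) (hr.trans (mul_comm _ _))
  simp only [map_mul, map_sub, map_pow, aeval_X, map_one, Module.End.mul_apply, h, map_zero, LinearMap.sub_apply,
    Module.End.one_apply] at h1
  exact sub_eq_zero.1 h1

theorem pow_cases (hW : Module.finrank ℚ W = 24) {g : Module.End ℚ W} {N : ℕ} (hN : 0 < N) (h : g ^ N = 1)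
    (hf : ∀ d, ¬ 13 ∣ d → ∀ v, (g ^ d) v = v → v = 0) :
    g ^ 26 = 1 ∨ ∃ e, (e = 3 ∨ e = 4 ∨ e = 6) ∧ 13 * e ∣ N ∧ aeval g (cyclotomic (13 * e) ℚ) = 0 := by
  by_cases H : ∀ d, d ∣ N → d ∣ 26 ∨ LinearMap.ker (aeval g (cyclotomic d ℚ)) = ⊥
  · have h1 := aeval_eq_zero hN h (q := X ^ 26 - 1) fun d hd => (H d hd).imp_left fun ⟨k, hk⟩ =>
      (cyclotomic.dvd_X_pow_sub_one d ℚ).trans (by rw [hk, pow_mul]; exact sub_one_dvd_pow_sub_one _ _)
    rw [map_sub, map_pow, aeval_X, map_one] at h1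
    exact Or.inl (sub_eq_zero.1 h1)
  push Not at H
  obtain ⟨d, hd, h26, hk⟩ := H
  obtain ⟨v, hv, h0⟩ := (Submodule.ne_bot_iff _).1 hk
  obtain ⟨e, rfl⟩ : 13 ∣ d := by_contra fun e => h0 (hf d e v (pow_apply_of_mem hv))
  have h1 : 0 < 13 * e := Nat.pos_of_dvd_of_pos hd hN
  have h2 := natDegree_dvd_finrank_ker g (cyclotomic.irreducible_rat h1)
  rw [natDegree_cyclotomic] at h2
  have h3 := Nat.le_of_dvd (Nat.pos_of_ne_zero fun e => hk (Submodule.finrank_eq_zero.1 e)) h2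
  have h4 := (Submodule.finrank_le (LinearMap.ker (aeval g (cyclotomic (13 * e) ℚ)))).trans_eq hW
  have h5 := Nat.totient_super_multiplicative 13 e
  rw [show Nat.totient 13 = 12 by decide] at h5
  have h6 : e = 3 ∨ e = 4 ∨ e = 6 := by
    rcases totient_le_two (e := e) (by omega) (by omega) with rfl | rfl | h6
    exacts [absurd (by norm_num) h26, absurd (by norm_num) h26, h6]
  refine Or.inr ⟨e, h6, hd, LinearMap.ker_eq_top.1 (Submodule.eq_top_of_finrank_eq (le_antisymm (h4.trans_eq hW.symm) ?_))⟩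
  rw [hW]
  refine le_trans ?_ h3
  rcases h6 with rfl | rfl | rfl <;> decide

end Lin

section Grp

variable {G : Type*} [Group G] [Finite G]

theorem exists_not_mem {α : Type*} [Finite α] (l : List α) (h : l.length < Nat.card α) : ∃ a, a ∉ l := by
  classical
  have := Fintype.ofFinite α
  obtain ⟨a, -, ha⟩ := Finset.exists_mem_notMem_of_card_lt_card (s := l.toFinset) (t := Finset.univ)
    ((List.toFinset_card_le l).trans_lt (by rwa [Finset.card_univ, ← Nat.card_eq_fintype_card]))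
  exact ⟨a, by simpa using ha⟩

open scoped IsMulCommutative in
theorem count {x : G} (hx : orderOf x = 13) {n : ℕ} (hG : Nat.card G = 13 * n) (hn : n % 13 = 1)
    (hC : Nat.card (centralizer ({x} : Set G)) ∣ 156) (h2 : 2 ∣ Nat.card (centralizer ({x} : Set G))) :
    Nat.card (centralizer ({x} : Set G)) = 156 ∧ ∃ s, s * x * s⁻¹ = x ^ 5 := by
  have : Fact (Nat.Prime 13) := ⟨by norm_num⟩
  have h1 : Nat.card (zpowers x) = 13 := by rw [Nat.card_zpowers, hx]
  have h3 : (zpowers x).index = n := by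
    have := (zpowers x).card_mul_index
    rw [h1, hG] at this
    omega
  have h4 := card_sylow_modEq_one 13 G
  rw [((IsPGroup.of_card (n := 1) h1).toSylow (by rw [h3]; omega)).card_eq_index_normalizer] at h4
  change (normalizer (zpowers x : Set G)).index ≡ 1 [MOD 13] at h4
  have h5 := (normalizer (zpowers x : Set G)).card_mul_index
  have h6 := (zpowers x).normalizerMonoidHom.ker.card_mul_index
  have h7 : centralizer (zpowers x : Set G) = centralizer {x} := by rw [zpowers_eq_closure, centralizer_closure]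
  rw [index_ker, normalizerMonoidHom_ker, Nat.card_congr (subgroupOfEquivOfLe (centralizer_le_normalizer _)).toEquiv,
    h7] at h6
  have h8 : Nat.card (MulAut (zpowers x)) = 12 := by rw [IsCyclic.card_mulAut, h1]; decide
  have h9 := h8 ▸ card_subgroup_dvd_card (zpowers x).normalizerMonoidHom.range
  obtain ⟨c, hc⟩ : 13 ∣ Nat.card (centralizer ({x} : Set G)) :=
    h1 ▸ card_dvd_of_le (zpowers_le_of_mem (mem_centralizer_singleton_iff.2 rfl))
  rw [hc] at hC h2 h6
  rw [← h6, hG, mul_assoc, mul_assoc, Nat.mul_right_inj (by norm_num), ← mul_assoc] at h5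
  have h10 : c * Nat.card (zpowers x).normalizerMonoidHom.range % 13 = 1 := by
    rw [← h5, Nat.mul_mod, show _ % 13 = 1 from h4, mul_one, Nat.mod_mod] at hn
    exact hn
  have h11 : c ∣ 12 := Nat.dvd_of_mul_dvd_mul_left (by norm_num) (show 13 * c ∣ 13 * 12 from hC)
  have h12 : c = 12 ∧ Nat.card (zpowers x).normalizerMonoidHom.range = 12 := by
    generalize Nat.card (zpowers x).normalizerMonoidHom.range = e at h9 h10
    have := Nat.le_of_dvd (by norm_num) h9
    have := Nat.le_of_dvd (by norm_num) h11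
    interval_cases c <;> interval_cases e <;> omega
  refine ⟨by rw [hc, h12.1], ?_⟩
  obtain ⟨s, hs⟩ := (eq_top_of_card_eq _ (h12.2.trans h8.symm)).ge (mem_top (MulEquiv.ofBijective
    (powMonoidHom 5 : zpowers x →* zpowers x) (powCoprime (G := zpowers x) (n := 5) (by rw [h1]; norm_num)).bijective))
  have h13 := congrArg Subtype.val (DFunLike.congr_fun hs ⟨x, mem_zpowers x⟩)
  exact ⟨s, h13⟩

omit [Finite G] in
theorem anti {n a b : G} (hn : ∀ g, g * n = n * g) (h2 : n * n = 1) (ha : a * a = n) (hb : b * b = n)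
    (hab : a * b * (a * b) = n) : b * a = a * b * n := by
  have h1 : a * a * (b * a) * (b * b) = a * n * b := by rw [← hab]; group
  rw [ha, hb, ← hn, mul_assoc, h2, mul_one, mul_assoc a, ← hn, ← mul_assoc] at h1
  exact h1

end Grp

/-- the element of order thirteen -/
local notation "xx" => mG K13 D13

theorem xx_ne : ((xx : Co0) : Spor.Co1) ≠ 1 := fun e =>
  (mk_eq_one_co1.1 e).elim (sim13.ne Sim.one (by decide +kernel)) (sim13.ne sim_neg (by decide +kernel))

theorem order_xx : orderOf ((xx : Co0) : Spor.Co1) = 13 :=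
  orderOf_eq_prime (hp := ⟨by norm_num⟩) (congrArg QuotientGroup.mk pow13) xx_ne

theorem lift_comm {g : Co0} (h : Commute (g : Spor.Co1) (xx : Co0)) : Commute g xx :=
  comm_of_mk h (by rw [tr13]; norm_num)

theorem fpf {y : Co0} {m : ℕ} (hm : ¬ 13 ∣ m) (hy : y ^ m = 1) (hc : Commute y xx) (d : ℕ) (hd : ¬ 13 ∣ d)
    (v : GolayPt → ℚ) (h : (rep (y * xx) ^ d) v = v) : v = 0 := by
  have h1 : ∀ (f : Module.End ℚ (GolayPt → ℚ)) (k : ℕ), f v = v → (f ^ k) v = v := fun f k hf => by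
    induction k with
    | zero => rfl
    | succ k ih => rw [pow_succ, Module.End.mul_apply, hf, ih]
  have h2 : (d * m).Coprime (orderOf (xx : Co0)) := Nat.Coprime.coprime_dvd_right (orderOf_dvd_of_pow_eq_one pow13)
    ((Nat.Prime.coprime_iff_not_dvd (by norm_num)).2 fun e =>
      ((Nat.Prime.dvd_mul (by norm_num)).1 e).elim hd hm).symm
  obtain ⟨k, hk⟩ := exists_pow_eq_self_of_coprime h2
  have h3 := h1 _ k (h1 _ m h)
  rw [← pow_mul _ d, ← map_pow, ← map_pow, hc.mul_pow, mul_comm d, pow_mul y, hy, one_pow, one_mul, mul_comm m, hk] at h3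
  have h4 := LinearMap.congr_fun sum13 v
  simp only [LinearMap.sum_apply, h1 _ _ h3, Finset.sum_const, Finset.card_range, LinearMap.zero_apply] at h4
  rw [← Nat.cast_smul_eq_nsmul ℚ] at h4
  exact (smul_eq_zero.1 h4).resolve_left (by norm_num)

theorem cases {y : Co0} {m : ℕ} (hm : ¬ 13 ∣ m) (hy : y ^ m = 1) (hc : Commute y xx) :
    (y * xx) ^ 26 = 1 ∨ ∃ e, (e = 3 ∨ e = 4 ∨ e = 6) ∧ e ∣ m ∧ aeval (rep (y * xx)) (cyclotomic (13 * e) ℚ) = 0 := by
  refine (pow_cases finrank_eq (g := rep (y * xx)) (N := 13 * m) (Nat.pos_of_ne_zero (by rintro e; omega)) ?_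
    (fpf hm hy hc)).imp (fun h => rep_inj (by rw [map_pow, h, map_one]))
    fun ⟨e, h1, h2, h3⟩ => ⟨e, h1, Nat.dvd_of_mul_dvd_mul_left (by norm_num) h2, h3⟩
  rw [← map_pow, hc.mul_pow, pow_mul xx, pow_mul', hy, pow13, one_pow, one_pow, one_mul, map_one]

theorem mul_pow13 {y : Co0} (hc : Commute y xx) (e : ℕ) : (y * xx) ^ (13 * e) = y ^ (13 * e) := by
  rw [hc.mul_pow, pow_mul xx, pow13, one_pow, mul_one]

theorem pow_of {y : Co0} {m : ℕ} (hm : ¬ 13 ∣ m) (hy : y ^ m = 1) (hc : Commute y xx) : y ^ 52 = 1 ∨ y ^ 78 = 1 := by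
  rcases cases hm hy hc with h | ⟨e, he, -, h⟩
  · rw [show 26 = 13 * 2 from rfl, mul_pow13 hc] at h
    exact Or.inl (by rw [show 52 = 13 * 2 * 2 from rfl, pow_mul, h, one_pow])
  have h1 : y ^ (13 * e) = 1 := by
    rw [← mul_pow13 hc]
    exact rep_inj (by
      rw [map_pow, map_one]
      exact LinearMap.ext fun v => pow_apply_of_mem (by rw [h]; rfl))
  rcases he with rfl | rfl | rfl
  exacts [Or.inr (by rw [show 78 = 13 * 3 * 2 from rfl, pow_mul, h1, one_pow]), Or.inl h1, Or.inr h1]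

theorem three {y : Co0} (hy : y ^ 3 = 1) (h1 : y ≠ 1) (hc : Commute y xx) : rep (y * y) + rep y + 1 = 0 := by
  rcases cases (by norm_num) hy hc with h | ⟨e, he, h3, h⟩
  · rw [show 26 = 13 * 2 from rfl, mul_pow13 hc] at h
    exact absurd (orderOf_eq_one_iff.1 (Nat.eq_one_of_dvd_coprimes (by norm_num) (orderOf_dvd_of_pow_eq_one hy)
      (orderOf_dvd_of_pow_eq_one h))) h1
  obtain rfl : e = 3 := by rcases he with rfl | rfl | rfl <;> first | rfl | omega
  have h2 := congrArg (aeval (rep (y * xx))) (cyclotomic_expand_eq_cyclotomic_mul (p := 13) (n := 3) (by norm_num)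
    (by norm_num) ℚ)
  rw [expand_aeval, map_mul (aeval _), h, zero_mul, ← map_pow, show 13 = 13 * 1 from rfl, mul_pow13 hc,
    show 13 * 1 = 3 * 4 + 1 from rfl, pow_succ, pow_mul, hy, one_pow, one_mul, cyclotomic_three] at h2
  simpa [pow_two] using h2

theorem not_nine : ¬ 3 ^ 2 ∣ Nat.card (centralizer ({xx} : Set Co0)) := fun h => by
  obtain ⟨T, hT⟩ := Sylow.exists_subgroup_card_pow_prime 3 h
  have h1 := (IsPGroup.isMulCommutative_of_card_eq_prime_sq hT).is_comm.comm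
  have h2 : ∀ a : T, a ≠ 1 → rep (a * a : T).1.1 + rep a.1.1 + 1 = 0 := fun a ha => by
    have hc : Commute a.1.1 xx := mem_centralizer_singleton_iff.1 a.1.2
    have h9 : a.1.1 ^ 9 = 1 := congrArg (fun a : T => a.1.1) (show a ^ 3 ^ 2 = 1 from hT ▸ pow_card_eq_one')
    refine three ?_ (fun e => ha (Subtype.ext (Subtype.ext e))) hc
    rcases pow_of (by norm_num) h9 hc with e | e
    · rw [show a.1.1 = 1 from pow_gcd_eq_one.2 ⟨h9, e⟩ ▸ (pow_one _).symm, one_pow]
    · exact pow_gcd_eq_one.2 ⟨h9, e⟩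
  have h3 : ∀ a : T, a * a * a = 1 := fun a => by
    by_cases ha : a = 1
    · simp [ha]
    have := h2 a ha
    refine Subtype.ext (Subtype.ext (rep_inj ?_))
    simp only [Subgroup.coe_mul, map_mul, Subgroup.coe_one, map_one] at this ⊢
    linear_combination (norm := noncomm_ring) this * rep a.1.1 - this
  obtain ⟨a, ha⟩ := exists_not_mem [(1 : T)] (by rw [hT]; norm_num)
  obtain ⟨b, hb⟩ := exists_not_mem [1, a⁻¹, a] (by rw [hT]; norm_num)
  simp only [List.mem_cons, List.not_mem_nil, or_false, not_or] at ha hb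
  have e1 := h2 a ha
  have e2 := h2 b hb.1
  have e3 := h2 (a * b) fun e => hb.2.1 (eq_inv_of_mul_eq_one_right e)
  have e4 := h2 (a * (b * b)) fun e => hb.2.2 (mul_right_cancel (b := b * b) (by rw [e, ← mul_assoc, h3]))
  rw [show a * b * (a * b) = a * a * (b * b) by rw [mul_assoc, ← mul_assoc b, h1 b a]; group] at e3
  rw [show a * (b * b) * (a * (b * b)) = a * a * b by
    rw [mul_assoc, ← mul_assoc (b * b), h1 (b * b) a, mul_assoc, ← mul_assoc (b * b), h3]; group] at e4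
  simp only [Subgroup.coe_mul, map_mul] at e1 e2 e3 e4
  have h4 : (3 : ℚ) • (1 : Module.End ℚ (GolayPt → ℚ)) = 0 := by
    rw [show (3 : ℚ) = 1 + 1 + 1 by norm_num, add_smul, add_smul, one_smul]
    linear_combination (norm := noncomm_ring) e1 + e3 + e4 - (rep a.1.1 * rep a.1.1 + rep a.1.1) * e2
  simp at h4

end CO

open CO CfsgLib.MType

theorem inv_Co0 {y : Co0} (hy : y * y = 1) (hc : Commute y (mG K13 D13)) : y = 1 ∨ y = negAut := by
  refine mk_eq_one_co1.1 (by_contra fun h => ?_)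
  have h1 : HasP 13 (y : Spor.Co1) := ⟨_, xx_ne, congrArg QuotientGroup.mk pow13, congrArg QuotientGroup.mk hc.symm⟩
  rcases inv3 (congrArg QuotientGroup.mk hy) h with c | c | c
  exacts [not_has_zz (by norm_num) (by norm_num) (h1.conj c.symm), not_has_cc (h1.conj c.symm),
    negAut_ne_one ((conj_uu c).symm.trans hy)]

namespace CO

/-- the element of order thirteen -/
local notation "xx" => mG K13 D13

theorem pow_Co1 {b : Spor.Co1} (h : Commute b (xx : Co0)) : b ^ 26 = 1 ∨ b ^ 39 = 1 := by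
  obtain ⟨g, rfl⟩ := QuotientGroup.mk_surjective b
  have hc := (lift_comm h).pow_left 13
  have h1 : (g ^ 13) ^ 639657970237440000 = 1 := by
    rw [← pow_mul, show 13 * 639657970237440000 = Nat.card Co0 from card_Co0.symm, pow_card_eq_one']
  refine (pow_of (by norm_num) h1 hc).imp (fun e => ?_) fun e => ?_
  · rw [show 26 = 13 * 2 from rfl, pow_mul]
    exact mk_eq_one_co1.2 (inv_Co0 (by rw [← pow_add]; exact pow_gcd_eq_one.2 ⟨h1, e⟩) (hc.pow_left 2))
  · rw [show 39 = 13 * 3 from rfl, pow_mul]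
    exact mk_eq_one_co1.2 (inv_Co0 (by rw [← pow_add]; exact pow_gcd_eq_one.2 ⟨h1, e⟩) (hc.pow_left 3))

theorem not_eight : ¬ 2 ^ 3 ∣ Nat.card (centralizer ({((xx : Co0) : Spor.Co1)} : Set Spor.Co1)) := fun h => by
  obtain ⟨T, hT⟩ := Sylow.exists_subgroup_card_pow_prime 2 h
  have h2 : ∀ (a : T) (g : Co0), a ≠ 1 → g = a.1.1 → g * g = negAut := fun a g ha hg => by
    have hc : Commute a.1.1 (xx : Co0) := mem_centralizer_singleton_iff.1 a.1.2
    have h8 : a.1.1 ^ 8 = 1 := congrArg (fun a : T => a.1.1) (show a ^ 2 ^ 3 = 1 from hT ▸ pow_card_eq_one')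
    have h1 : a.1.1 ≠ 1 := fun e => ha (Subtype.ext (Subtype.ext e))
    refine (sq_cases ?_).resolve_left fun e => h1 (hg ▸ mk_eq_one_co1.2 (inv_Co0 e (lift_comm (hg ▸ hc))))
    rw [hg, ← pow_two]
    rcases pow_Co1 hc with e | e
    · exact pow_gcd_eq_one.2 ⟨h8, e⟩
    · exact absurd ((pow_one _).symm.trans (pow_gcd_eq_one.2 ⟨h8, e⟩)) h1
  obtain ⟨a, ha⟩ := exists_not_mem [(1 : T)] (by rw [hT]; norm_num)
  obtain ⟨b, hb⟩ := exists_not_mem [1, a⁻¹] (by rw [hT]; norm_num)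
  obtain ⟨c, hc⟩ := exists_not_mem [1, a⁻¹, b⁻¹, (a * b)⁻¹] (by rw [hT]; norm_num)
  simp only [List.mem_cons, List.not_mem_nil, or_false, not_or] at ha hb hc
  obtain ⟨a', ea⟩ := QuotientGroup.mk_surjective a.1.1
  obtain ⟨b', eb⟩ := QuotientGroup.mk_surjective b.1.1
  obtain ⟨c', ec⟩ := QuotientGroup.mk_surjective c.1.1
  have hn := Subgroup.mem_center_iff.1 negAut_mem_center
  have e1 := h2 a a' ha ea
  have e2 := h2 (b * c) (b' * c') (fun e => hc.2.2.1 (eq_inv_of_mul_eq_one_right e))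
    (by rw [QuotientGroup.mk_mul, eb, ec]; rfl)
  have e3 := anti hn negAut_mul_self e1 (h2 b b' hb.1 eb) (h2 (a * b) _ (fun e => hb.2 (eq_inv_of_mul_eq_one_right e))
    (by rw [QuotientGroup.mk_mul, ea, eb]; rfl))
  have e4 := anti hn negAut_mul_self e1 (h2 c c' hc.1 ec) (h2 (a * c) _ (fun e => hc.2.1 (eq_inv_of_mul_eq_one_right e))
    (by rw [QuotientGroup.mk_mul, ea, ec]; rfl))
  have e5 := anti hn negAut_mul_self e1 e2 (h2 (a * b * c) _ (fun e => hc.2.2.2 (eq_inv_of_mul_eq_one_right e))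
    (by rw [QuotientGroup.mk_mul, QuotientGroup.mk_mul, ea, eb, ec, ← mul_assoc]; rfl))
  rw [mul_assoc b', e4, ← mul_assoc, ← mul_assoc, e3, mul_left_inj, mul_assoc, ← hn, ← mul_assoc, mul_assoc a',
    mul_eq_left] at e5
  exact negAut_ne_one e5

theorem not_sq : ¬ 13 ^ 2 ∣ Nat.card Spor.Co1 := by rw [card_eq]; norm_num

theorem card_dvd : Nat.card (centralizer ({((xx : Co0) : Spor.Co1)} : Set Spor.Co1)) ∣ 156 := by
  refine (Nat.dvd_iff_prime_pow_dvd_dvd _ _).2 fun p k hp hk => ?_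
  rcases k with _ | k
  · simp
  have := Fact.mk hp
  obtain ⟨b, hb⟩ := exists_prime_orderOf_dvd_card' p ((dvd_pow_self p k.succ_ne_zero).trans hk)
  have h1 : p ∣ 2 * 13 ∨ p ∣ 3 * 13 := (pow_Co1 (mem_centralizer_singleton_iff.1 b.2)).imp
    (fun e => hb ▸ orderOf_dvd_of_pow_eq_one (Subtype.ext e)) fun e => hb ▸ orderOf_dvd_of_pow_eq_one (Subtype.ext e)
  have h2 : ∀ j, ¬ p ^ (j + 1) ∣ Nat.card (centralizer ({((xx : Co0) : Spor.Co1)} : Set Spor.Co1)) → p ^ j ∣ 156 →
      p ^ (k + 1) ∣ 156 := fun j h e =>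
    (pow_dvd_pow p (by_contra fun e => h ((pow_dvd_pow p (by omega)).trans hk))).trans e
  simp only [hp.dvd_mul, Nat.prime_dvd_prime_iff_eq hp Nat.prime_two, Nat.prime_dvd_prime_iff_eq hp Nat.prime_three,
    Nat.prime_dvd_prime_iff_eq hp (show Nat.Prime 13 by norm_num)] at h1
  obtain rfl | rfl | rfl : p = 2 ∨ p = 3 ∨ p = 13 := by omega
  · exact h2 2 not_eight (by norm_num)
  · refine h2 1 (fun e => not_nine (e.trans ((card_dvd_of_le fun b hb => ?_).trans
      (card_map_dvd _ (QuotientGroup.mk' (center Co0)))))) (by norm_num)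
    obtain ⟨g, rfl⟩ := QuotientGroup.mk_surjective b
    exact ⟨g, mem_centralizer_singleton_iff.2 (lift_comm (mem_centralizer_singleton_iff.1 hb)), rfl⟩
  · exact h2 1 (fun e => not_sq (e.trans (card_subgroup_dvd_card _))) (by norm_num)

theorem two_dvd : 2 ∣ Nat.card (centralizer ({((xx : Co0) : Spor.Co1)} : Set Spor.Co1)) := by
  have h1 : uu ∈ centralizer ({((xx : Co0) : Spor.Co1)} : Set Spor.Co1) := mem_centralizer_singleton_iff.2
    (congrArg QuotientGroup.mk ((sim_u0.mul sim13).ext (sim13.mul sim_u0) (by decide +kernel)))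
  exact (orderOf_eq_prime (by rw [pow_two, uu_sq]) uu_ne : orderOf uu = 2) ▸ orderOf_dvd_natCard _ h1

end CO

theorem hypQ_Co1 : HypQ 13 ((mG K13 D13 : Co0) : Spor.Co1) := by
  obtain ⟨h1, s, hs⟩ := count order_xx (n := 319828985118720000) card_eq (by norm_num) card_dvd two_dvd
  exact ⟨order_xx, not_sq, h1, fun _ => pow_Co1, s, 5, hs, by norm_num⟩

end CfsgLib.RV
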