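import Mathlib
import Cfsg.Agent.Lib.RV.Lift
import Cfsg.Agent.Lib.RV.Co
import Cfsg.Agent.Lib.Mon.Six
import Cfsg.Agent.Lib.Mon.Struct5
import Cfsg.Agent.Lib.Mon.Ym
import Cfsg.Agent.Lib.Y333.Final
import Cfsg.Agent.Lib.Mon.CovF

/-!
# Package MON: the Monster (plans/RV.md)
-/

set_option autoImplicit false

namespace CfsgLib.RV

open Subgroup Matrix Cfsg CfsgLib.Fusion

namespace MonP

open CfsgLib.Leech CfsgLib.Co1Rec CfsgLib.KInv.Co1 CfsgLib.Mon CfsgLib.MType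

theorem sum_smul_eq (w : leechLattice) : ∑ i ∈ Finset.range 13, (mG K13 D13 ^ i) • w = 0 := by
  apply ratv_injective
  have h := LinearMap.congr_fun sum13 (ratv w)
  have e : ∀ i : ℕ, (rep (mG K13 D13) ^ i) (ratv w) = ratv ((mG K13 D13 ^ i) • w) := fun i => by
    rw [← map_pow, rep_apply, Matrix.toLin'_apply, gm_mulVec]
  simp only [LinearMap.coe_sum, Finset.sum_apply, e, LinearMap.zero_apply] at h
  funext j
  have h2 := congrFun h j
  simp only [Finset.sum_apply, ratv, Pi.zero_apply] at h2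
  simp only [ratv, AddSubgroup.val_finsetSum, Finset.sum_apply, Int.cast_sum, h2]
  simp

theorem fix_eq_zero {v : V24} (h : k0.act (mG K13 D13) v = v) : v = 0 := by
  have h1 : ∀ i : ℕ, k0.act (mG K13 D13 ^ i) v = v := fun i => by
    induction i with
    | zero => simp
    | succ i ih => rw [pow_succ, k0.act_mul, h, ih]
  obtain ⟨w, rfl⟩ := k0.surj v
  have h2 := congrArg k0.φ (sum_smul_eq w)
  rw [map_sum, map_zero] at h2
  simp only [← k0.act_φ, h1, Finset.sum_const, Finset.card_range] at h2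
  have h3 : 2 • k0.φ w = 0 := by rw [two_smul, ww_add_self]
  rw [show 13 = 6 * 2 + 1 from rfl, add_smul, mul_smul, h3, smul_zero, zero_add, one_smul] at h2
  exact h2

theorem exists_lift : ∃ X : Chat k0, X.g = mG K13 D13 ∧ orderOf (Mon.mk k0 X) = 13 := by
  have : Fact (Nat.Prime 13) := ⟨by norm_num⟩
  obtain ⟨c, hc⟩ := toCo1_surjective (κ := k0) ((mG K13 D13 : Co0) : Spor.Co1)
  have h13 : ((mG K13 D13 : Co0) : Spor.Co1) ^ 13 = 1 := by
    rw [← hypQ_Co1.oy]; exact pow_orderOf_eq_one _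
  obtain ⟨e, v, hq⟩ := mem_Q.1 (toCo1_eq_one.1 (show toCo1 k0 (c ^ 13) = 1 by rw [map_pow, hc, h13]))
  have h52 : (c ^ 13) ^ 4 = 1 := by
    rw [hq, show 4 = 2 * 2 from rfl, pow_mul, pow_two, pow_two, q_mul_self, q_mul_self_eq_one]
    simp [qf]
  have h40 : toCo1 k0 (c ^ 40) = ((mG K13 D13 : Co0) : Spor.Co1) := by
    rw [map_pow, hc, show 40 = 13 * 3 + 1 from rfl, pow_succ, pow_mul, h13, one_pow, one_mul]
  obtain ⟨X, h1, h2⟩ := exists_mk_of_toCo1 h40.symm
  refine ⟨X, h1, ?_⟩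
  rw [h2]
  refine orderOf_eq_prime ?_ fun e => ?_
  · rw [← pow_mul, show 40 * 13 = 13 * 4 * 10 from rfl, pow_mul, pow_mul, h52, one_pow]
  · have := hypQ_Co1.oy
    rw [← h40, e, map_one, orderOf_one] at this
    omega

end MonP

open CfsgLib.Leech CfsgLib.Co1Rec CfsgLib.KInv.Co1 CfsgLib.Mon CfsgLib.MType in
theorem hyp_M : ∃ (G : Type) (_ : Group G) (_ : Finite G) (z x : G), Hyp 13 z x := by
  obtain ⟨π, τ, m, h, -⟩ := (Ym.inputs Y333.y333Card).exists_ms
  have := h.finite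
  obtain ⟨X, hX, oX⟩ := MonP.exists_lift
  refine ⟨_, inferInstance, inferInstance, π (z k0), π (Mon.mk k0 X), hyp_of_quot (Or.inr rfl) π h.inj h.cent_z
    (toCo1 k0) toCo1_surjective ?_ (ker_toCo1 ▸ z_mem_Q) orderOf_z oX ?_ ?_ ?_ ?_ ?_ ?_⟩
  · rw [ker_toCo1]; exact IsPGroup.of_card card_Q
  · intro c hc hx
    rw [ker_toCo1] at hc
    obtain ⟨e, v, rfl⟩ := mem_Q.1 hc
    have h1 := (comm_q_iff.1 hx.symm).2
    rw [cact_mk, hX] at h1
    obtain rfl := MonP.fix_eq_zero h1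
    rcases z2_cases e with rfl | rfl
    exacts [Or.inl q_zero, Or.inr q_one_zero]
  · intro b hb h2
    obtain ⟨Y, rfl⟩ := mk_surjective b
    have h3 : ((Y.g * Y.g : Co0) : Spor.Co1) = 1 := by
      rw [QuotientGroup.mk_mul, ← toCo1_mk, ← map_mul, h2, map_one]
    rcases mk_eq_one_co1.1 h3 with e | e
    · have h4 : Y.g * mG K13 D13 = mG K13 D13 * Y.g := comm_of_mk (by
        have := congrArg (toCo1 k0) hb
        rwa [map_mul, map_mul, toCo1_mk, toCo1_mk, hX] at this) (by rw [tr13]; norm_num)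
      rw [ker_toCo1, mk_mem_Q]
      exact inv_Co0 e h4
    · exact absurd h2 (no_inv_uu e)
  · rw [toCo1_mk, hX]; exact hypQ_Co1
  · rw [h.card_G]; norm_num
  · rw [h.card_G]; norm_num
  · intro t ht hx
    refine (h.inv_cases ht).resolve_right fun k => ?_
    have h1 := h.six k (k.trans (isConj_iff.2 ⟨(π (Mon.mk k0 X))⁻¹, rfl⟩))
    have t2 : t⁻¹ = t := inv_eq_of_mul_eq_one_right (by rw [← pow_two, ← ht, pow_orderOf_eq_one])
    have h2 : t * ((π (Mon.mk k0 X))⁻¹ * t * (π (Mon.mk k0 X))⁻¹⁻¹) = π (Mon.mk k0 X) ^ 2 := by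
      have h3 := congrArg (·⁻¹) hx
      simp only [_root_.mul_inv_rev, inv_inv, t2] at h3
      rw [inv_inv, mul_assoc, ← mul_assoc t, ← mul_assoc _ t, mul_assoc t _ t, h3, pow_two]
    rw [h2, (show Nat.Coprime (orderOf (π (Mon.mk k0 X))) 2 by
      rw [orderOf_injective π h.inj, oX]; norm_num).orderOf_pow, orderOf_injective π h.inj, oX] at h1
    omega

end CfsgLib.RV
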