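import Mathlib
import Cfsg.Agent.Lib.RV.Adm
import Cfsg.Agent.Lib.Fusion.Alperin
import Cfsg.Agent.Lib.TwoGrp.FusCmp

/-!
# Package UNI: the data determine the system (plans/RV.md)
-/

set_option autoImplicit false

namespace CfsgLib.RV

open Subgroup Matrix Cfsg CfsgLib.Fusion

variable {p : ℕ} [hp : Fact p.Prime] {Ω : Type*} [Group Ω] {S : Subgroup Ω} {F : FusionSystem S} {θ : Hs p →* Ω}

namespace UniP

omit hp in
/-- a map given by a matrix of the system and an inner automorphism -/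
theorem mor_of_act (h : Crd S θ) {A : G2 p} (hA : A ∈ WF F h) (s : Hs p) {Q : Subgroup (Hs p)} {f : Ω → Ω}
    (e : ∀ a ∈ Q, f (θ a) = θ (s * act A a * s⁻¹)) : Mor F (Q.map θ) f := by
  obtain ⟨g, hg, eg⟩ := hA
  have hQ : Q.map θ ≤ S := by rintro _ ⟨a, -, rfl⟩; exact h.mem a
  refine ((hg.mono hQ).conj_left (h.mem s)).congr ?_
  rintro _ ⟨a, ha, rfl⟩
  rw [e a ha, eg, map_mul, map_mul, map_inv]

theorem plane (hp2 : p ≠ 2) (h : Crd S θ) (hF : F.IsSaturated p) {F' : FusionSystem S} (hF' : F'.IsSaturated p)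
    (h1 : WF F h ≤ WF F' h) (h2 : EF F θ ⊆ EF F' θ) {v : V2 p} (hv : v ≠ 0) {f : Ω → Ω}
    (hf : Mor F ((VV v).map θ) f) (hm : ∀ a ∈ VV v, f (θ a) ∈ (VV v).map θ) : Mor F' ((VV v).map θ) f := by
  have key : ∀ g, Mor F ((VV v).map θ) g → (∃ c, g (θ ⟨0, 1⟩) = θ ⟨0, c⟩) → Mor F' ((VV v).map θ) g :=
    fun g hg hz => by
      obtain ⟨A, hA, s, e⟩ := ext_plane hp2 h hF hv hg hz
      exact mor_of_act h (h1 hA) s e
  by_cases hz : ∃ c, f (θ ⟨0, 1⟩) = θ ⟨0, c⟩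
  · exact key f hf hz
  have hE := mem_EF_of_move hp2 h hv hf hm hz
  obtain ⟨⟨w, u⟩, ⟨t, ht⟩, e⟩ := hm ⟨0, 1⟩ ⟨0, by simp⟩
  change w = t • v at ht
  subst ht
  have ht : t ≠ 0 := by
    rintro rfl
    exact hz ⟨u, by rw [← e, zero_smul]⟩
  obtain ⟨g, hg, eg⟩ := sl2_plane hp2 h hF hE (a := u) (b := -t) (c := t⁻¹) (d := 0)
    (by rw [mul_zero, neg_mul, mul_inv_cancel₀ ht]; ring)
  obtain ⟨k, hk, ek⟩ := sl2_plane hp2 h hF' (h2 hE) (a := 0) (b := t) (c := -t⁻¹) (d := u)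
    (by rw [zero_mul, mul_neg, mul_inv_cancel₀ ht]; ring)
  have hm' : ∀ x ∈ (VV v).map θ, f x ∈ (VV v).map θ := by
    rintro _ ⟨a, ha, rfl⟩; exact hm a ha
  have hg' : ∀ x ∈ (VV v).map θ, g x ∈ (VV v).map θ := by
    rintro _ ⟨⟨w, c⟩, ⟨r, hr⟩, rfl⟩
    change w = r • v at hr
    subst hr
    rw [eg]
    exact ⟨_, ⟨_, rfl⟩, rfl⟩
  have hkg : ∀ x ∈ (VV v).map θ, k (g x) = x := by
    rintro _ ⟨⟨w, c⟩, ⟨r, hr⟩, rfl⟩
    change w = r • v at hr
    subst hr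
    rw [eg, ek]
    congr 2
    · congr 1
      field_simp
      ring
    · field_simp
      ring
  have h3 : Mor F' ((VV v).map θ) (g ∘ f) := key _ (hf.comp hg hm') ⟨1, by
    rw [Function.comp_apply, ← e, eg]
    congr 2
    · rw [show u * t + -t * u = 0 by ring, zero_smul]
    · rw [inv_mul_cancel₀ ht]; ring⟩
  refine (h3.comp hk fun x hx => hg' _ (hm' x hx)).congr fun x hx => ?_
  exact hkg _ (hm' x hx)

/-- the system read through an injective homomorphism -/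
theorem exists_pull {G : Type*} [Group G] {ι : S →* G} (hi : Function.Injective ι) :
    ∃ E : FusionSystem S, E.IsRealizedBy ι := by
  have ht := isHomOn_extFun ι
  have hinj : ∀ x ∈ S, ∀ y ∈ S, extFun ι x = extFun ι y → x = y := fun x hx y hy e => by
    rw [extFun_apply _ hx, extFun_apply _ hy] at e
    exact congrArg Subtype.val (hi e)
  have hM : IsMorPred S (fun P f => P ≤ S ∧ (∀ x ∈ P, f x ∈ S) ∧
      ∃ g : G, ∀ x ∈ P, extFun ι (f x) = g * extFun ι x * g⁻¹) := by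
    have hom : ∀ {P : Subgroup Ω} {f : Ω → Ω}, (P ≤ S ∧ (∀ x ∈ P, f x ∈ S) ∧
        ∃ g : G, ∀ x ∈ P, extFun ι (f x) = g * extFun ι x * g⁻¹) → IsHomOn P f := by
      rintro P f ⟨hP, hm, g, hg⟩ x hx y hy
      refine hinj _ (hm _ (mul_mem hx hy)) _ (mul_mem (hm x hx) (hm y hy)) ?_
      rw [ht.map_mul (hm x hx) (hm y hy), hg _ (mul_mem hx hy), hg x hx, hg y hy, ht.map_mul (hP hx) (hP hy)]
      group
    have inj : ∀ {P : Subgroup Ω} {f : Ω → Ω}, (P ≤ S ∧ (∀ x ∈ P, f x ∈ S) ∧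
        ∃ g : G, ∀ x ∈ P, extFun ι (f x) = g * extFun ι x * g⁻¹) → Set.InjOn f P := by
      rintro P f ⟨hP, hm, g, hg⟩ x hx y hy e
      refine hinj _ (hP hx) _ (hP hy) ?_
      have := hg x hx
      rw [e, hg y hy] at this
      simpa using this.symm
    refine ⟨hom, fun h => h.1, fun h => h.2.1, inj, ?_, ?_, ?_, ?_⟩
    · rintro P f f' ⟨hP, hm, g, hg⟩ e
      exact ⟨hP, fun x hx => e x hx ▸ hm x hx, g, fun x hx => e x hx ▸ hg x hx⟩
    · intro P s hP hs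
      exact ⟨hP, fun x hx => mul_mem (mul_mem hs (hP hx)) (inv_mem hs), extFun ι s,
        fun x hx => ht.map_conj hs (hP hx)⟩
    · rintro P Q f f' ⟨hP, hm, g, hg⟩ ⟨hQ, hm', g', hg'⟩ e
      refine ⟨hP, fun x hx => hm' _ (e x hx), g' * g, fun x hx => ?_⟩
      rw [Function.comp_apply, hg' _ (e x hx), hg x hx]
      group
    · intro P f hf
      have h1 := hom hf
      obtain ⟨k, hk⟩ := exists_leftInv (inj hf)
      obtain ⟨hP, hm, g, hg⟩ := hf
      refine ⟨k, ⟨img_le_iff.2 hm, fun y hy => hP (h1.inv_mem hk hy), g⁻¹, fun y hy => ?_⟩, hk⟩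
      obtain ⟨x, hx, rfl⟩ := h1.mem_img.1 hy
      rw [hk x hx, hg x hx]
      group
  obtain ⟨E, hE⟩ := exists_fs_of_isMorPred hM
  exact ⟨E, isRealizedBy_of_mor hi fun P f hP _ hm => by
    rw [hE]; exact ⟨fun h => h.2.2, fun h => ⟨hP, hm, h⟩⟩⟩

end UniP

theorem le_of_data (hp2 : p ≠ 2) (h : Crd S θ) (hF : F.IsSaturated p) {F' : FusionSystem S} (hF' : F'.IsSaturated p)
    (h1 : WF F h ≤ WF F' h) (h2 : EF F θ ⊆ EF F' θ) : F ≤ F' := by
  haveI := h.finite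
  refine alperin_le h.isPGroup hF ?_
  rintro P (rfl | hP)
  · refine (autGroup_le_iff le_rfl le_rfl).2 fun f hf _ => ?_
    obtain ⟨A, hA, s, e⟩ := top_eq hp2 h hf
    have := UniP.mor_of_act h (h1 hA) s (Q := ⊤) (f := f) fun a _ => e a
    rwa [← MonoidHom.range_eq_map, h.range] at this
  · obtain ⟨v, hv, rfl⟩ := eq_plane_of_centric hp2 h (essential_centric hP) (essential_ne_top h.isPGroup hF hP)
    refine (autGroup_le_iff (essential_le hP) (essential_le hP)).2 fun f hf e => ?_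
    exact UniP.plane hp2 h hF hF' h1 h2 hv hf fun a ha => e ▸ mem_img_of_mem f ⟨a, ha, rfl⟩

theorem realizable_of_rz (hp2 : p ≠ 2) (h : Crd S θ) (hF : F.IsSaturated p) (hr : Rz (WF F h) (EF F θ)) :
    F.IsRealizable p := by
  obtain ⟨G, _, _, θ', hs, hW, hE⟩ := hr
  let e : Hs p ≃* S := (MonoidHom.ofInjective h.inj).trans (MulEquiv.subgroupCongr h.range)
  let ι : S →* G := θ'.comp e.symm.toMonoidHom
  have hι : ∀ a, extFun ι (θ a) = θ' a := fun a => by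
    rw [extFun_apply _ (h.mem a)]
    exact congrArg θ' (e.symm_apply_eq.2 (Subtype.ext rfl))
  have hi : Function.Injective ι := hs.inj.comp e.symm.injective
  have hr : ι.range = θ'.range := by
    ext y
    exact ⟨fun ⟨x, hx⟩ => ⟨_, hx⟩, fun ⟨a, ha⟩ => ⟨⟨θ a, h.mem a⟩, by
      rw [← extFun_apply ι (h.mem a), hι, ha]⟩⟩
  obtain ⟨T, hT⟩ := hs.exists_sylow
  have hT' : SylIn p ι.range ⊤ := by rw [hr, ← hT]; exact sylIn_top T
  obtain ⟨E, hR⟩ := UniP.exists_pull hi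
  have hinj := realized_injOn hR
  have hES := realized_saturated hR hT'
  have lift : ∀ {P : Subgroup Ω}, P ≤ S → ∀ g : G, (∀ x ∈ P, g * extFun ι x * g⁻¹ ∈ ι.range) →
      ∃ f, Mor E P f ∧ ∀ x ∈ P, extFun ι (f x) = g * extFun ι x * g⁻¹ := fun hP g hg => by
    obtain ⟨φ, hφ, eφ⟩ := realized_exists_hom hR hP hg
    exact ⟨_, mor_of_mem hφ, fun x hx => by rw [extFun_apply φ hx]; exact eφ ⟨x, hx⟩⟩
  have e1 : WF E h = WL ⊤ θ' := by
    ext A
    constructor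
    · rintro ⟨f, hf, ef⟩
      obtain ⟨-, -, g, hg⟩ := (realized_mor_iff hR).1 hf
      exact ⟨g, mem_top g, fun a => by rw [← hι, ← hι, ← ef, hg _ (h.mem a)]⟩
    · rintro ⟨g, -, eg⟩
      obtain ⟨f, hf, ef⟩ := lift le_rfl g fun x hx => by
        obtain ⟨a, rfl⟩ := h.exists_eq hx
        rw [hι, eg, hr]; exact ⟨_, rfl⟩
      exact ⟨f, hf, fun a => hinj (hf.mem (h.mem a)) (h.mem _) (by rw [ef _ (h.mem a), hι, hι, eg])⟩
  have e2 : EF E θ = EL ⊤ θ' := by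
    ext v
    constructor
    · rintro ⟨h0, f, hf, c, ef⟩
      obtain ⟨-, -, g, hg⟩ := (realized_mor_iff hR).1 hf
      exact ⟨h0, g, mem_top g, c, by rw [← hι, ← hι, ← ef, hg _ (mem_zpowers _)]⟩
    · rintro ⟨h0, g, -, c, eg⟩
      obtain ⟨f, hf, ef⟩ := lift (zpowers_le.2 (h.mem ⟨v, 0⟩)) g (by
        rintro _ ⟨k, rfl⟩
        simp only
        rw [← map_zpow, hι, map_zpow, ← conj_zpow, eg, hr]
        exact zpow_mem (MonoidHom.mem_range.2 ⟨_, rfl⟩) _)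
      exact ⟨h0, f, hf, c, hinj (hf.mem (mem_zpowers _)) (h.mem _) (by rw [ef _ (mem_zpowers _), hι, hι, eg])⟩
  have hFE : F = E := fs_le_antisymm
    (le_of_data hp2 h hF hES (by rw [e1, hW]) (by rw [e2, hE]))
    (le_of_data hp2 h hES hF (by rw [e1, hW]) (by rw [e2, hE]))
  subst hFE
  have fin : ∀ {H : Type _} [Group H] [Finite H] (k : G ≃* H), ∃ (ι : S →* H),
      F.IsRealizedBy ι ∧ ∃ T : Sylow p H, (T : Subgroup H) = ι.range := fun k => by
    obtain ⟨h2, h3⟩ := realized_comp hR hT' k.toMonoidHom k.surjective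
      (by rw [(MonoidHom.ker_eq_bot_iff _).2 k.injective, inf_bot_eq])
    exact ⟨_, h2, h3.exists_sylow⟩
  exact ⟨ULift G, inferInstance, inferInstance, fin MulEquiv.ulift.symm⟩

end CfsgLib.RV
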