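import Mathlib
import Cfsg.Agent.Lib.RV.Uni
import Cfsg.Agent.Lib.RV.Cns
import Cfsg.Agent.Lib.RV.Ex3
import Cfsg.Agent.Lib.RV.Exc
import Cfsg.Agent.Lib.RV.SL3
import Cfsg.Agent.Lib.RV.Tits
import Cfsg.Agent.Lib.RV.Alc
import Cfsg.Agent.Lib.RV.Ald
import Cfsg.Agent.Lib.RV.Th
import Cfsg.Agent.Lib.RV.Mon

/-!
# Saturated fusion systems on the extraspecial group of order `p ^ 3` and exponent `p` (plans/RV.md)
-/

set_option autoImplicit false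

namespace CfsgLib.RV

open Subgroup Matrix Cfsg CfsgLib.Fusion

variable {p : ℕ} [hp : Fact p.Prime]

theorem Rz.of_conj {W : Subgroup (G2 p)} {E : Set (V2 p)} {g : G2 p} (h : Rz (cjW g W) (cjE g E)) : Rz W E := by
  simpa only [cjW_cjW, cjE_cjE, inv_mul_cancel, cjW_one, cjE_one] using h.conj g⁻¹

theorem Hyp.rz {G : Type} [Group G] [Finite G] {z x : G} (h : Hyp p z x) :
    ∃ (W : Subgroup (G2 p)) (E : Set (V2 p)), Rz W E ∧ Three E := by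
  obtain ⟨P, hs⟩ := h.exists_sy
  obtain ⟨θ, h1, h2⟩ := h.three_of_nonab hs (h.nonab hs)
  exact ⟨_, _, ⟨G, inferInstance, inferInstance, θ, h1, rfl, rfl⟩, h2⟩

theorem rz_513 (h : p = 5 ∨ p = 13) {W : Subgroup (G2 p)} {E : Set (V2 p)} (h1 : Adm W E) (h3 : Three E) : Rz W E := by
  obtain ⟨W', E', k1, k2⟩ : ∃ (W : Subgroup (G2 p)) (E : Set (V2 p)), Rz W E ∧ Three E := by
    rcases h with rfl | rfl
    · obtain ⟨z, x, k⟩ := hyp_Th
      exact k.rz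
    · obtain ⟨G, _, _, z, x, k⟩ := hyp_M
      exact k.rz
  obtain ⟨W₀, E₀, k⟩ := exc513 h
  obtain ⟨g, e1, e2⟩ := k W E h1 h3
  obtain ⟨g', e3, e4⟩ := k W' E' (k1.adm (by omega)) k2
  exact Rz.of_conj (g := g) (by rw [e1, e2, ← e3, ← e4]; exact k1.conj g')

omit hp in
theorem card_cjW (g : G2 p) (W : Subgroup (G2 p)) : Nat.card (cjW g W) = Nat.card W :=
  card_map_of_injective (MulAut.conj g).injective

theorem rz_3 {W : Subgroup (G2 3)} {E : Set (V2 3)} (h1 : Adm W E) (h3 : Three E) : Rz W E := by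
  have : Fact (Nat.Prime 3) := ⟨Nat.prime_three⟩
  obtain ⟨M, D, k⟩ := exc3
  obtain ⟨W₁, W₂, E₁, E₂, a1, a2, b1, b2, hlt⟩ := rz_three
  obtain ⟨g, e, f⟩ := k W E h1 h3
  obtain ⟨g₁, e₁, f₁⟩ := k W₁ E₁ (a1.adm (by decide)) b1
  obtain ⟨g₂, e₂, f₂⟩ := k W₂ E₂ (a2.adm (by decide)) b2
  have c₁ := a1.conj g₁
  have c₂ := a2.conj g₂
  have hne : cjW g₁ W₁ ≠ cjW g₂ W₂ := fun e => hlt.ne (eq_of_le_of_card_ge hlt.le (by
    rw [← card_cjW g₁ W₁, e, card_cjW]))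
  rw [e₁] at c₁
  rw [e₂] at c₂
  refine Rz.of_conj (g := g) ?_
  rw [e]
  rcases f with f | f <;> rcases f₁ with f₁ | f₁ <;> rcases f₂ with f₂ | f₂ <;>
    first
    | exact absurd (f₁.trans f₂.symm) hne
    | exact (f₁.trans f.symm) ▸ c₁
    | exact (f₂.trans f.symm) ▸ c₂

theorem rz_all (hp2 : p ≠ 2) (hp7 : p ≠ 7) {W : Subgroup (G2 p)} {E : Set (V2 p)} (h : Adm W E)
    (h2 : ∃ v ∈ E, ∃ w ∈ E, om v w ≠ 0) : Rz W E := by
  by_cases h3 : Three E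
  · rcases three_prime hp2 hp7 h h3 with rfl | e
    exacts [rz_3 h h3, rz_513 e h h3]
  · obtain ⟨g, e1, e2, e3⟩ := two_lines h h2 h3
    exact Rz.of_conj (g := g) (e1 ▸ rz_axes hp2 e2 e3)

theorem realizable {Ω : Type*} [Group Ω] {S : Subgroup Ω} [Finite S] {F : FusionSystem S} (hF : F.IsSaturated p)
    (hp2 : p ≠ 2) (hp7 : p ≠ 7) (hE : IsExtraspecial p S) (hc : Nat.card S = p ^ 3) (he : Monoid.exponent S = p) :
    F.IsRealizable p := by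
  obtain ⟨θ, h⟩ := exists_crd' hp2 hE hc he
  by_cases h2 : ∃ v ∈ EF F θ, ∃ w ∈ EF F θ, om v w ≠ 0
  · exact realizable_of_rz hp2 h hF (rz_all hp2 hp7 (adm hp2 h hF) h2)
  · exact realizable_of_line hp2 h hF fun v hv w hw => by_contra fun e => h2 ⟨v, hv, w, hw, e⟩

end CfsgLib.RV
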